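import Groth.Agent.TTApprox.Main
import Groth.Agent.MorLib.EventuallySep

/-!
# Absolute approximation: a qcqs scheme over a quasi-separated one as a limit of finitely presented ones
-/

set_option autoImplicit false
set_option linter.style.haveILetI false
set_option backward.isDefEq.respectTransparency false
set_option backward.isDefEq.respectTransparency.types false

universe u

open CategoryTheory CategoryTheory.Limits AlgebraicGeometry TopologicalSpace Opposite

attribute [-instance] CategoryTheory.catToReflQuiver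

noncomputable section

namespace Groth.Agent.TTApprox

open Groth.Agent

/-- A morphism from a qcqs scheme to a quasi-separated scheme is a limit of finitely presented
morphisms with affine transition maps. -/
theorem exists_fp_limit {X S : Scheme.{u}} (f : X ⟶ S) [CompactSpace X] [QuasiSeparatedSpace X]
    [QuasiSeparatedSpace S] :
    ∃ (I : Type u) (_ : Preorder I) (_ : IsDirected I (fun a b => a ≤ b)) (_ : Nonempty I)
      (D : Iᵒᵖ ⥤ Over S) (c : Cone D) (_ : IsLimit c),
      (∀ i, LocallyOfFinitePresentation (D.obj i).hom ∧ CompactSpace (D.obj i).left ∧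
        QuasiSeparatedSpace (D.obj i).left) ∧
      (∀ (i j : Iᵒᵖ) (a : i ⟶ j), IsAffineHom (D.map a).left) ∧
      Nonempty (c.pt ≅ Over.mk f) := by
  obtain ⟨P, p, k, hPc, hPq, hp, hk, hkp⟩ := exists_hasAff f
  obtain ⟨I, _, _, _, D, c, hc, hD, ⟨e⟩⟩ := exists_affine_fp_limit k
  haveI : CategoryTheory.IsConnected Iᵒᵖ := IsCofiltered.isConnected _
  let D' : Iᵒᵖ ⥤ Over S := D ⋙ Over.map p
  let c' : Cone D' := (Over.map p).mapCone c
  have hc' : IsLimit c' := by
    have h : IsLimit ((Over.forget S).mapCone c') :=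
      (isLimitOfPreserves (Over.forget P) hc : IsLimit ((Over.forget P).mapCone c))
    exact isLimitOfReflects (Over.forget S) h
  refine ⟨I, inferInstance, inferInstance, inferInstance, D', c', hc', fun i => ?_, fun i j a => ?_,
    ⟨(Over.map p).mapIso e ≪≫ Over.isoMk (Iso.refl X) (by
      show 𝟙 X ≫ f = k ≫ p
      rw [Category.id_comp, hkp])⟩⟩
  · haveI := (hD i).1
    haveI := (hD i).2
    exact ⟨inferInstanceAs (LocallyOfFinitePresentation ((D.obj i).hom ≫ p)),
      QuasiCompact.compactSpace_of_compactSpace (D.obj i).hom,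
      quasiSeparatedSpace_of_quasiSeparated (D.obj i).hom⟩
  · haveI := (hD i).1
    haveI := (hD j).1
    haveI : IsAffineHom ((D.map a).left ≫ (D.obj j).hom) := by rw [Over.w]; infer_instance
    exact IsAffineHom.of_comp (D.map a).left (D.obj j).hom

/-- A separated morphism of qcqs schemes is affine over a separated one of finite presentation. -/
theorem exists_affine_factor {X S : Scheme.{u}} (f : X ⟶ S) [CompactSpace X] [QuasiSeparatedSpace X]
    [CompactSpace S] [QuasiSeparatedSpace S] :
    ∃ (Z : Scheme.{u}) (g : X ⟶ Z) (h : Z ⟶ S), CompactSpace Z ∧ QuasiSeparatedSpace Z ∧ IsAffineHom g ∧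
      LocallyOfFinitePresentation h ∧ (IsSeparated f → IsSeparated h) ∧ g ≫ h = f := by
  by_cases hf : IsSeparated f
  swap
  · obtain ⟨P, p, k, hPc, hPq, hp, hk, hkp⟩ := exists_hasAff f
    exact ⟨P, k, p, hPc, hPq, hk, hp, fun h => absurd h hf, hkp⟩
  obtain ⟨I, _, _, _, D, c, hc, hD, htr, ⟨e⟩⟩ := exists_fp_limit f
  haveI : CategoryTheory.IsConnected Iᵒᵖ := IsCofiltered.isConnected _
  let Xs : Iᵒᵖ ⥤ Scheme.{u} := D ⋙ Over.forget S
  let cX : Cone Xs := (Over.forget S).mapCone c
  have hcX : IsLimit cX := isLimitOfPreserves (Over.forget S) hc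
  haveI : ∀ {i j : Iᵒᵖ} (a : i ⟶ j), IsAffineHom (Xs.map a) := fun {i j} a => htr i j a
  haveI : ∀ i, CompactSpace (Xs.obj i) := fun i => (hD i).2.1
  haveI : ∀ i, QuasiSeparatedSpace (Xs.obj i) := fun i => (hD i).2.2
  haveI : IsSeparated ((c.pt.hom : cX.pt ⟶ S)) := by
    have h : c.pt.hom = e.hom.left ≫ f := (Over.w e.hom).symm
    rw [h]
    infer_instance
  obtain ⟨i, hi⟩ := MorLib.EvSep.eventually_isSeparated (D := Xs) (c := cX)
    (fun i => (D.obj i).hom) (fun {a b} h => Over.w (D.map h)) (c.pt.hom : cX.pt ⟶ S)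
    (fun i => Over.w (c.π.app i)) hcX
  refine ⟨Xs.obj i, e.inv.left ≫ cX.π.app i, (D.obj i).hom, inferInstance, inferInstance, ?_, (hD i).1,
    fun _ => hi i (𝟙 i), ?_⟩
  · haveI := isAffineHom_π_app Xs cX hcX i
    infer_instance
  · rw [Category.assoc]
    exact (congrArg (e.inv.left ≫ ·) (Over.w (c.π.app i))).trans (Over.w e.inv)

end Groth.Agent.TTApprox
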