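import Groth.Agent.AcycFin.IntegralLim
import Groth.Agent.Graft.EvFinite
import Groth.Agent.LimNested.Basic

/-!
# An affine morphism is a limit of affine morphisms of finite presentation
-/

set_option autoImplicit false
set_option linter.style.haveILetI false
set_option backward.isDefEq.respectTransparency false
set_option backward.isDefEq.respectTransparency.types false

universe u

open CategoryTheory CategoryTheory.Limits AlgebraicGeometry Opposite

attribute [-instance] CategoryTheory.catToReflQuiver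

noncomputable section

namespace Groth.Agent.TTApprox

open Groth.Agent

variable {X S : Scheme.{u}} [CompactSpace S] [QuasiSeparatedSpace S]

omit [CompactSpace S] [QuasiSeparatedSpace S] in
theorem locallyOfFiniteType_str (B : RelSpec.QCAlg S) (N : (AcycFin.IntLim.Idx B)ᵒᵖ) :
    LocallyOfFiniteType ((AcycFin.IntLim.str B).app N) := by
  open AcycFin.IntLim in
  refine (IsZariskiLocalAtTarget.iff_of_openCover (P := @LocallyOfFiniteType)
    (Scheme.AffineZariskiSite.directedCover S)).2 fun U => ?_
  show LocallyOfFiniteType (pullback.snd (gl B N.unop).toBase U.1.ι)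
  rw [← (isPullback_ch B N.unop U).isoPullback_inv_snd]
  have h1 : LocallyOfFiniteType (Spec.map ((SymSh.genα B N.unop.1).app (op U)) ≫ U.2.isoSpec.inv) :=
    MorphismProperty.comp_mem _ _ _
      ((HasRingHomProperty.Spec_iff (P := @LocallyOfFiniteType)).2 (finiteType_gen B N.unop U))
      (inferInstance : LocallyOfFiniteType U.2.isoSpec.inv)
  exact MorphismProperty.comp_mem _ _ _
    (inferInstance : LocallyOfFiniteType (isPullback_ch B N.unop U).isoPullback.inv) h1

/-- An affine morphism is a limit of affine morphisms locally of finite type. -/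
theorem exists_affine_lft_limit (f : X ⟶ S) [IsAffineHom f] :
    ∃ (ι : Type u) (_ : Preorder ι) (_ : IsDirected ι (· ≤ ·)) (_ : Nonempty ι) (Xs : ιᵒᵖ ⥤ Scheme.{u})
      (c : Cone Xs) (_ : IsLimit c) (e : c.pt ≅ X) (t : Xs ⟶ (Functor.const ιᵒᵖ).obj S),
      (∀ a, IsAffineHom (t.app a)) ∧ (∀ a, LocallyOfFiniteType (t.app a)) ∧
        ∀ a, c.π.app a ≫ t.app a = e.hom ≫ f := by
  open AcycFin in
  let B := RelSpec.QCAlg.directImage f
  haveI := isIso_fromSpecDirectImage f
  obtain ⟨hl⟩ := IntLim.isLimit_cone B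
  refine ⟨_, inferInstance, IntLim.isDirected B, IntLim.nonempty B, _, IntLim.cone B, hl,
    asIso (fromSpecDirectImage f), IntLim.str B, IntLim.isAffineHom_str B,
    locallyOfFiniteType_str B, fun a => ?_⟩
  exact (IntLim.proj_str B a).trans (fromSpecDirectImage_comp f).symm

/-- An affine morphism locally of finite type is a closed subscheme of an affine morphism of finite
presentation. -/
theorem exists_affine_hull (f : X ⟶ S) [IsAffineHom f] [LocallyOfFiniteType f] :
    ∃ (P : Scheme.{u}) (p : P ⟶ S) (k : X ⟶ P), IsAffineHom p ∧ LocallyOfFinitePresentation p ∧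
      IsClosedImmersion k ∧ k ≫ p = f := by
  open Graft MorLib.IdealFG Scheme in
  haveI : CompactSpace X := QuasiCompact.compactSpace_of_compactSpace f
  haveI : QuasiSeparatedSpace X := quasiSeparatedSpace_of_quasiSeparated f
  obtain ⟨P, p, k, hc, hq, hp, hk, hkp⟩ := exists_hasModel f
  haveI : QuasiCompact p := quasiCompact_of_compactSpace p
  haveI : QuasiSeparated p := QuasiSeparated.of_quasiSeparatedSpace p
  let b : Sub k.ker := ⟨⊥, bot_le, isFG_bot⟩
  haveI : QuasiCompact (b.1.subschemeι ≫ p) := inferInstance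
  haveI : QuasiSeparated (b.1.subschemeι ≫ p) := inferInstance
  haveI : IsAffineHom ((subC p k.ker).π.app (Opposite.op b) ≫ b.1.subschemeι ≫ p) := by
    have e : k.ker.subschemeι ≫ p = inv k.toImage ≫ f := by
      rw [← hkp, IsIso.eq_inv_comp, Scheme.Hom.toImage_imageι_assoc]
    show IsAffineHom (IdealSheafData.inclusion b.2.1 ≫ b.1.subschemeι ≫ p)
    rw [IdealSheafData.inclusion_subschemeι_assoc, e]
    infer_instance
  obtain ⟨j, hj⟩ := exists_isAffineHom (isLimitSubC p k.ker) (i₀ := Opposite.op b)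
    (b.1.subschemeι ≫ p)
  let K₁ : Sub k.ker := j.left.unop
  haveI : IsAffineHom (K₁.1.subschemeι ≫ p) := by
    have e : (subD p k.ker).map j.hom ≫ b.1.subschemeι ≫ p = K₁.1.subschemeι ≫ p :=
      IdealSheafData.inclusion_subschemeι_assoc (show b.1 ≤ K₁.1 from j.hom.unop.le) p
    exact e ▸ hj
  haveI : LocallyOfFinitePresentation K₁.1.subschemeι := lfp_subschemeι K₁.2.2
  let k₁ : X ⟶ K₁.1.subscheme := IsClosedImmersion.lift K₁.1.subschemeι k
    (K₁.1.ker_subschemeι.le.trans K₁.2.1)
  have hk₁ : k₁ ≫ K₁.1.subschemeι = k := IsClosedImmersion.lift_fac _ _ _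
  haveI : IsClosedImmersion (k₁ ≫ K₁.1.subschemeι) := by rw [hk₁]; infer_instance
  exact ⟨_, K₁.1.subschemeι ≫ p, k₁, inferInstance,
    inferInstance, IsClosedImmersion.of_comp k₁ K₁.1.subschemeι, by rw [reassoc_of% hk₁, hkp]⟩

/-- An affine morphism to a quasi-compact quasi-separated scheme is a limit of affine morphisms of
finite presentation. -/
theorem exists_affine_fp_limit (f : X ⟶ S) [IsAffineHom f] :
    ∃ (I : Type u) (_ : Preorder I) (_ : IsDirected I (fun a b => a ≤ b)) (_ : Nonempty I)
      (D : Iᵒᵖ ⥤ Over S) (c : Cone D) (_ : IsLimit c),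
      (∀ i, IsAffineHom (D.obj i).hom ∧ LocallyOfFinitePresentation (D.obj i).hom) ∧
      Nonempty (c.pt ≅ Over.mk f) := by
  obtain ⟨A, _, _, _, Xs, c, hc, e, t, haff, hlft, hπ⟩ := exists_affine_lft_limit f
  haveI : ∀ a, IsAffineHom (t.app a) := haff
  haveI : ∀ a, LocallyOfFiniteType (t.app a) := hlft
  haveI : IsCofiltered Aᵒᵖ := inferInstance
  haveI : CategoryTheory.IsConnected Aᵒᵖ := IsCofiltered.isConnected _
  have hXs : ∀ {a b : Aᵒᵖ} (h : a ⟶ b), IsAffineHom (Xs.map h) := fun {a b} h => by
    haveI : IsAffineHom (Xs.map h ≫ t.app b) := by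
      rw [(t.naturality h).trans (Category.comp_id _)]; infer_instance
    exact IsAffineHom.of_comp (Xs.map h) (t.app b)
  haveI : ∀ a, CompactSpace (Xs.obj a) := fun a =>
    QuasiCompact.compactSpace_of_compactSpace (show Xs.obj a ⟶ S from t.app a)
  haveI : ∀ a, QuasiSeparatedSpace (Xs.obj a) := fun a =>
    quasiSeparatedSpace_of_quasiSeparated (show Xs.obj a ⟶ S from t.app a)
  let D : Aᵒᵖ ⥤ Over S :=
    { obj := fun a => Over.mk (t.app a)
      map := fun {a b} h => Over.homMk (Xs.map h) ((t.naturality h).trans (Category.comp_id _))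
      map_id := fun a => Over.OverMorphism.ext (Xs.map_id a)
      map_comp := fun h h' => Over.OverMorphism.ext (Xs.map_comp h h') }
  let cD : Cone D :=
    { pt := Over.mk (e.hom ≫ f)
      π := { app := fun a => Over.homMk (c.π.app a) (hπ a)
             naturality := fun a b h => Over.OverMorphism.ext (c.π.naturality h) } }
  have hcD : IsLimit cD := isLimitOfReflects (Over.forget S) hc
  choose P p k hPaff hPfp hk hkp using fun a => exists_affine_hull (show Xs.obj a ⟶ S from t.app a)
  haveI : ∀ a, IsAffineHom (p a) := hPaff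
  haveI : ∀ a, LocallyOfFinitePresentation (p a) := hPfp
  haveI : ∀ a, IsClosedImmersion (k a) := hk
  haveI : ∀ a, CompactSpace (P a) := fun a => QuasiCompact.compactSpace_of_compactSpace (p a)
  haveI : ∀ a, QuasiSeparatedSpace (P a) := fun a => quasiSeparatedSpace_of_quasiSeparated (p a)
  let E : ∀ a : Aᵒᵖ, (MorLib.IdealFG.Sub (k a).ker)ᵒᵖ ⥤ Over S := fun a =>
    MorLib.IdealFG.subDiagram (p a) (k a).ker
  let w : ∀ a, D.obj a ≅ (MorLib.IdealFG.subCone (p a) (k a).ker).pt := fun a =>
    haveI : IsClosedImmersion (k a) := hk a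
    haveI : IsIso (k a).toImage := inferInstance
    Over.isoMk (@asIso _ _ _ _ (k a).toImage this) (by
      show (k a).toImage ≫ (k a).imageι ≫ p a = t.app a
      rw [Scheme.Hom.toImage_imageι_assoc, hkp])
  let η : ∀ a, (Functor.const _).obj (D.obj a) ⟶ E a := fun a =>
    (Functor.const _).map (w a).hom ≫ (MorLib.IdealFG.subCone (p a) (k a).ker).π
  have hη : ∀ a, IsLimit ({ pt := D.obj a, π := η a } : Cone (E a)) := fun a =>
    IsLimit.ofIsoLimit (MorLib.IdealFG.isLimitSubCone (p a) (k a).ker) (Cone.ext (w a) fun _ => rfl).symm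
  have hE : ∀ a b, IsAffineHom ((E a).obj b).hom ∧ LocallyOfFinitePresentation ((E a).obj b).hom :=
    fun a b => by
      haveI : LocallyOfFinitePresentation b.unop.1.subschemeι := MorLib.IdealFG.lfp_subschemeι b.unop.2.2
      exact ⟨inferInstanceAs (IsAffineHom (b.unop.1.subschemeι ≫ p a)),
        inferInstanceAs (LocallyOfFinitePresentation (b.unop.1.subschemeι ≫ p a))⟩
  let F : ∀ a, (MorLib.IdealFG.Sub (k a).ker)ᵒᵖ ⥤ Scheme.{u} := fun a => E a ⋙ Over.forget S
  let τ : ∀ a, F a ⟶ (Functor.const _).obj S := fun a =>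
    { app := fun b => ((E a).obj b).hom
      naturality := fun b b' h => (Over.w ((E a).map h)).trans (Category.comp_id _).symm }
  have hF : ∀ (a) {b b'} (h : b ⟶ b'), IsAffineHom ((F a).map h) := fun a {b b'} h => by
    haveI := MorLib.IdealFG.isClosedImmersion_map (p a) (k a).ker h
    exact inferInstanceAs (IsAffineHom ((E a).map h).left)
  haveI : ∀ a b, CompactSpace ((F a).obj b) := fun a b => by
    haveI := (hE a b).1
    exact QuasiCompact.compactSpace_of_compactSpace ((E a).obj b).hom
  haveI : ∀ a b, QuasiSeparatedSpace ((F a).obj b) := fun a b => by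
    haveI := (hE a b).1
    exact quasiSeparatedSpace_of_quasiSeparated ((E a).obj b).hom
  let cF : ∀ a, Cone (F a) := fun a => (Over.forget S).mapCone { pt := D.obj a, π := η a }
  have hcF : ∀ a, IsLimit (cF a) := fun a => by
    haveI : CategoryTheory.IsConnected (MorLib.IdealFG.Sub (k a).ker)ᵒᵖ := IsCofiltered.isConnected _
    exact isLimitOfPreserves (Over.forget S) (hη a)
  obtain ⟨I, _, _, _, D', c', hc', hobj, hpt⟩ :=
    LimNested.exists_directed_limit cD η hcD hη (fun a a' b' g => by
      haveI := (hE a' b').2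
      haveI : ∀ {b b'} (h : b ⟶ b'), IsAffineHom ((F a).map h) := hF a
      obtain ⟨b, g', hg, hg'⟩ := Scheme.exists_π_app_comp_eq_of_locallyOfFinitePresentation
        (F a) (τ a) ((E a').obj b').hom (cF a) (hcF a) g.left (by
          ext b
          exact (Over.w ((η a).app b)).trans (Over.w g).symm)
      exact ⟨b, Over.homMk g' hg', Over.OverMorphism.ext hg⟩)
    (fun a a' b b' g h hgh => by
      haveI := (hE a' b').2
      haveI : ∀ {b b'} (h : b ⟶ b'), IsAffineHom ((F a).map h) := hF a
      obtain ⟨b₁, q, hq⟩ := Scheme.exists_hom_comp_eq_comp_of_locallyOfFiniteType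
        (F a) (τ a) ((E a').obj b').hom (cF a) (hcF a) g.left h.left (Over.w g).symm (Over.w h).symm
        (congrArg CommaMorphism.left hgh)
      exact ⟨b₁, q, Over.OverMorphism.ext hq⟩)
    (fun a a' b' g h hgh => by
      haveI := (hE a' b').2
      haveI : ∀ {b b'} (h : b ⟶ b'), IsAffineHom (Xs.map h) := hXs
      obtain ⟨a₁, q, hq⟩ := Scheme.exists_hom_comp_eq_comp_of_locallyOfFiniteType
        Xs t ((E a').obj b').hom c hc g.left h.left (Over.w g).symm (Over.w h).symm
        (congrArg CommaMorphism.left hgh)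
      exact ⟨a₁, q, Over.OverMorphism.ext hq⟩)
  refine ⟨I, inferInstance, inferInstance, inferInstance, D', c', hc', fun i => ?_,
    ⟨eqToIso hpt ≪≫ Over.isoMk e rfl⟩⟩
  obtain ⟨a, b, h⟩ := hobj i
  rw [h]
  exact hE a b

end Groth.Agent.TTApprox
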