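import Mathlib.AlgebraicGeometry.AffineTransitionLimit
import Mathlib.AlgebraicGeometry.Morphisms.ClosedImmersion
import Mathlib.AlgebraicGeometry.Morphisms.Immersion
import Groth.Agent.MorLib.BaseChangeLim

/-!
# A morphism locally of finite type from a limit embeds in a product with a stage
-/

set_option autoImplicit false
set_option linter.style.haveILetI false
set_option backward.isDefEq.respectTransparency false
set_option backward.isDefEq.respectTransparency.types false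

universe u

open CategoryTheory CategoryTheory.Limits AlgebraicGeometry TopologicalSpace

attribute [-instance] CategoryTheory.catToReflQuiver

noncomputable section

namespace Groth.Agent.TTApprox

variable {J : Type u} [SmallCategory J] [IsCofiltered J] {D : J ⥤ Scheme.{u}} {c : Cone D} (hc : IsLimit c)
  [∀ {i j : J} (a : i ⟶ j), IsAffineHom (D.map a)] [∀ i, CompactSpace (D.obj i)]
  [∀ i, QuasiSeparatedSpace (D.obj i)] {S T : Scheme.{u}} [IsAffine T] (τS : S ⟶ T) (τD : ∀ i, D.obj i ⟶ T)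
  (f : c.pt ⟶ S) [LocallyOfFiniteType f] (hτ : ∀ i, f ≫ τS = c.π.app i ≫ τD i)

/-- The graph of `f` in the product with a stage. -/
def graphStage (i : J) : c.pt ⟶ pullback τS (τD i) := pullback.lift f (c.π.app i) (hτ i)

include hc in
theorem exists_restrict_closed (x : c.pt) :
    ∃ (U : c.pt.Opens) (i₁ : J), x ∈ U ∧ ∀ (k : J) (_ : k ⟶ i₁),
      ∃ W : (pullback τS (τD k)).Opens, graphStage τS τD f hτ k ⁻¹ᵁ W = U ∧
        IsClosedImmersion (graphStage τS τD f hτ k ∣_ W) := by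
  classical
  obtain ⟨V, hV, hfV, -⟩ := exists_isAffineOpen_mem_and_subset (x := f x) (U := ⊤) trivial
  obtain ⟨U, hU, hxU, hUV⟩ := exists_isAffineOpen_mem_and_subset (x := x) (U := f ⁻¹ᵁ V) hfV
  obtain ⟨i, O, hO, rfl⟩ := exists_isAffineOpen_preimage_eq D c hc U hU
  have hUV' : c.π.app i ⁻¹ᵁ O ≤ f ⁻¹ᵁ V := hUV
  haveI : IsAffine (V : Scheme.{u}) := hV
  let Ds := opensDiagram D i O
  let cs := opensCone D c i O
  haveI : ∀ j, IsAffine (Ds.obj j) := fun j => hO.preimage (D.map j.hom)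
  haveI : IsAffine cs.pt := hU
  let fU : cs.pt ⟶ V := f.resLE V (c.π.app i ⁻¹ᵁ O) hUV'
  have hft : fU.appTop.hom.FiniteType :=
    HasRingHomProperty.appTop @LocallyOfFiniteType _ inferInstance
  letI := fU.appTop.hom.toAlgebra
  obtain ⟨G, hG⟩ := (hft : Algebra.FiniteType Γ((V : Scheme.{u}), ⊤) Γ(cs.pt, ⊤)).out
  have hb : ∀ b : Γ(cs.pt, ⊤), ∃ j : Over i, b ∈ (cs.π.app j).appTop.hom.range := fun b => by
    obtain ⟨j, b', hb'⟩ :=
      exists_appTop_π_eq_of_isAffine_of_isLimit Ds cs (isLimitOpensCone D c hc i O) b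
    exact ⟨j, b', hb'⟩
  choose jb hjb using hb
  obtain ⟨n, hn⟩ := IsCofiltered.inf_objs_exists (G.image jb)
  refine ⟨_, n.left, hxU, fun k g => ?_⟩
  let m : Over i := Over.mk (g ≫ n.hom)
  let gm : m ⟶ n := Over.homMk g rfl
  let Ok : (D.obj k).Opens := D.map m.hom ⁻¹ᵁ O
  haveI : IsAffine (Ok : Scheme.{u}) := hO.preimage (D.map m.hom)
  let a : (V : Scheme.{u}) ⟶ T := V.ι ≫ τS
  let b : (Ok : Scheme.{u}) ⟶ T := Ok.ι ≫ τD k
  let P := pullback a b
  let μ : P ⟶ pullback τS (τD k) :=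
    pullback.map a b τS (τD k) V.ι Ok.ι (𝟙 T) (Category.comp_id _) (Category.comp_id _)
  haveI : IsOpenImmersion μ :=
    inferInstanceAs (IsOpenImmersion (pullback.map a b τS (τD k) V.ι Ok.ι (𝟙 T) _ _))
  let π' : cs.pt ⟶ (Ok : Scheme.{u}) := cs.π.app m
  have hπ' : π' ≫ Ok.ι = (c.π.app i ⁻¹ᵁ O).ι ≫ c.π.app k := Scheme.Hom.resLE_comp_ι _ _
  have hfU : fU ≫ V.ι = (c.π.app i ⁻¹ᵁ O).ι ≫ f := Scheme.Hom.resLE_comp_ι _ _
  let g' : cs.pt ⟶ P := pullback.lift fU π' (by
    show fU ≫ V.ι ≫ τS = π' ≫ Ok.ι ≫ τD k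
    rw [reassoc_of% hfU, reassoc_of% hπ', hτ k])
  have hg' : g' ≫ μ = (c.π.app i ⁻¹ᵁ O).ι ≫ graphStage τS τD f hτ k := by
    apply pullback.hom_ext
    · show (g' ≫ μ) ≫ pullback.fst _ _ = ((c.π.app i ⁻¹ᵁ O).ι ≫ pullback.lift f (c.π.app k) _) ≫ pullback.fst _ _
      rw [Category.assoc, Category.assoc, pullback.lift_fst, pullback.lift_fst, pullback.lift_fst_assoc]
      exact hfU
    · show (g' ≫ μ) ≫ pullback.snd _ _ = ((c.π.app i ⁻¹ᵁ O).ι ≫ pullback.lift f (c.π.app k) _) ≫ pullback.snd _ _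
      rw [Category.assoc, Category.assoc, pullback.lift_snd, pullback.lift_snd, pullback.lift_snd_assoc]
      exact hπ'
  have hpre : graphStage τS τD f hτ k ⁻¹ᵁ μ.opensRange = c.π.app i ⁻¹ᵁ O := by
    refine SetLike.coe_injective (Set.Subset.antisymm ?_ ?_)
    · rintro z ⟨p, hp⟩
      have h1 : c.π.app k z = Ok.ι (pullback.snd a b p) := by
        rw [← Scheme.Hom.comp_apply (pullback.snd a b), ← pullback.lift_snd (f := τS) (g := τD k)
          (pullback.fst a b ≫ V.ι) (pullback.snd a b ≫ Ok.ι) (by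
            rw [Category.assoc, Category.assoc]; exact pullback.condition)]
        show c.π.app k z = pullback.snd τS (τD k) (μ p)
        rw [hp, ← Scheme.Hom.comp_apply]
        exact congrArg (fun h : c.pt ⟶ D.obj k => h z) (pullback.lift_snd f (c.π.app k) (hτ k)).symm
      show c.π.app i z ∈ O
      have h2 : c.π.app i z = D.map m.hom (c.π.app k z) := by
        exact (congrArg (fun h : c.pt ⟶ D.obj i => h z) (c.w m.hom)).symm.trans (Scheme.Hom.comp_apply _ _ z)
      rw [h2, h1]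
      exact Subtype.prop (pullback.snd a b p)
    · intro z hz
      refine ⟨g' ⟨z, hz⟩, ?_⟩
      rw [← Scheme.Hom.comp_apply, hg']
      rfl
  have sq : IsPullback g' (c.π.app i ⁻¹ᵁ O).ι μ (graphStage τS τD f hτ k) :=
    IsOpenImmersion.isPullback _ _ _ _ hg'.symm (by rw [hpre, Scheme.Opens.opensRange_ι])
  refine ⟨μ.opensRange, hpre, ?_⟩
  haveI : IsClosedImmersion g' := by
    refine IsClosedImmersion.of_surjective_of_isAffine _ fun y => ?_
    have hR : ∀ (Z : Scheme.{u}) (q : P ⟶ Z) (h : cs.pt ⟶ Z), g' ≫ q = h →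
        ∀ z, h.appTop.hom z ∈ g'.appTop.hom.range := by
      rintro Z q h rfl z
      exact ⟨q.appTop.hom z, rfl⟩
    let R : Subalgebra Γ((V : Scheme.{u}), ⊤) Γ(cs.pt, ⊤) :=
      { g'.appTop.hom.range.toSubsemiring with
        algebraMap_mem' := fun r => hR _ (pullback.fst a b) fU (pullback.lift_fst _ _ _) r }
    have hle : (⊤ : Subalgebra Γ((V : Scheme.{u}), ⊤) Γ(cs.pt, ⊤)) ≤ R := hG ▸ Algebra.adjoin_le
      (fun z hz => by
        obtain ⟨r⟩ := hn (Finset.mem_image_of_mem jb hz)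
        obtain ⟨z', hz'⟩ := hjb z
        refine hz' ▸ ?_
        show (cs.π.app (jb z)).appTop.hom z' ∈ g'.appTop.hom.range
        rw [← cs.w (gm ≫ r), Scheme.Hom.comp_appTop]
        exact hR _ (pullback.snd a b) π' (pullback.lift_snd _ _ _) ((Ds.map (gm ≫ r)).appTop z'))
    exact hle (show y ∈ (⊤ : Subalgebra Γ((V : Scheme.{u}), ⊤) Γ(cs.pt, ⊤)) from trivial)
  exact (MorphismProperty.arrow_mk_iso_iff @IsClosedImmersion (Arrow.isoMk
    (c.pt.isoOfEq hpre) μ.isoOpensRange.symm (by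
      show (c.pt.isoOfEq hpre).hom ≫ g' = (graphStage τS τD f hτ k ∣_ μ.opensRange) ≫ μ.isoOpensRange.inv
      rw [← cancel_mono μ, Category.assoc, Category.assoc, hg', Scheme.Hom.isoOpensRange_inv_comp,
        morphismRestrict_ι, Scheme.isoOfEq_hom_ι_assoc]))).2 ‹IsClosedImmersion g'›

include hc in
/-- For `i` small, the graph in the product with the stage `i` is an immersion. -/
theorem exists_isImmersion_graphStage [CompactSpace c.pt] : ∃ i, IsImmersion (graphStage τS τD f hτ i) := by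
  classical
  choose U i₁ hxU hW using exists_restrict_closed hc τS τD f hτ
  obtain ⟨F, hF⟩ := isCompact_univ.elim_finite_subcover (fun x => (U x : Set c.pt))
    (fun x => (U x).2) (fun x _ => Set.mem_iUnion.2 ⟨x, hxU x⟩)
  obtain ⟨k, hk⟩ := IsCofiltered.inf_objs_exists (F.image i₁)
  refine ⟨k, ?_⟩
  choose W hWp hWc using fun x : F => hW x.1 k (hk (Finset.mem_image_of_mem i₁ x.2)).some
  let Wt : (pullback τS (τD k)).Opens := ⨆ x, W x
  have hr : Set.range (graphStage τS τD f hτ k) ⊆ Set.range Wt.ι := by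
    rintro _ ⟨z, rfl⟩
    rw [Scheme.Opens.range_ι]
    obtain ⟨x, hx, hzx⟩ := Set.mem_iUnion₂.1 (hF (Set.mem_univ z))
    exact Opens.mem_iSup.2 ⟨⟨x, hx⟩, show z ∈ graphStage τS τD f hτ k ⁻¹ᵁ W ⟨x, hx⟩ from (hWp ⟨x, hx⟩).symm ▸ hzx⟩
  let l' := IsOpenImmersion.lift Wt.ι (graphStage τS τD f hτ k) hr
  have hl' : l' ≫ Wt.ι = graphStage τS τD f hτ k := IsOpenImmersion.lift_fac _ _ _
  haveI : IsClosedImmersion l' := by
    refine IsZariskiLocalAtTarget.of_iSup_eq_top (P := @IsClosedImmersion) (fun x => Wt.ι ⁻¹ᵁ W x) ?_ fun x => ?_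
    · rw [← Scheme.Hom.preimage_iSup]
      exact Opens.ext (Set.eq_univ_of_forall fun v => v.2)
    · haveI := hWc x
      have h1 : IsClosedImmersion ((l' ∣_ Wt.ι ⁻¹ᵁ W x) ≫ (Wt.ι ∣_ W x)) := by
        rw [← morphismRestrict_comp]
        have hg : ∀ g : c.pt ⟶ pullback τS (τD k), g = graphStage τS τD f hτ k →
            IsClosedImmersion (g ∣_ W x) := by
          rintro g rfl
          infer_instance
        exact hg _ hl'
      exact IsClosedImmersion.of_comp _ (Wt.ι ∣_ W x)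
  rw [← hl']
  infer_instance

end Groth.Agent.TTApprox
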