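import Groth.Agent.TTApprox.Limit
import Mathlib.CategoryTheory.Comma.Arrow
import Mathlib.AlgebraicGeometry.Limits

/-!
# A morphism of qcqs schemes as a limit of morphisms of schemes of finite type over the integers
-/

set_option autoImplicit false
set_option linter.style.haveILetI false
set_option backward.isDefEq.respectTransparency false
set_option backward.isDefEq.respectTransparency.types false

universe v u w

open CategoryTheory CategoryTheory.Limits AlgebraicGeometry TopologicalSpace Opposite

attribute [-instance] CategoryTheory.catToReflQuiver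

noncomputable section

namespace Groth.Agent.TTApprox

open Groth.Agent

section arrow

variable {C : Type w} [Category.{v} C] {J : Type u} [Category.{u} J] {F : J ⥤ Arrow C} (c : Cone F)

/-- A cone of arrows is a limit if it is componentwise. -/
def isLimitArrow (hl : IsLimit (Arrow.leftFunc.mapCone c)) (hr : IsLimit (Arrow.rightFunc.mapCone c)) :
    IsLimit c := by
  have hw : ∀ (s : Cone F), hl.lift (Arrow.leftFunc.mapCone s) ≫ c.pt.hom =
      s.pt.hom ≫ hr.lift (Arrow.rightFunc.mapCone s) := fun s => by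
    refine hr.hom_ext fun j => ?_
    show (hl.lift (Arrow.leftFunc.mapCone s) ≫ c.pt.hom) ≫ (c.π.app j).right =
      (s.pt.hom ≫ hr.lift (Arrow.rightFunc.mapCone s)) ≫ (c.π.app j).right
    refine (Category.assoc _ _ _).trans ((congrArg (_ ≫ ·) (c.π.app j).w.symm).trans ?_)
    refine (Category.assoc _ _ _).symm.trans ((congrArg (· ≫ (F.obj j).hom) (hl.fac _ j)).trans ?_)
    refine (s.π.app j).w.trans ?_
    exact (congrArg (s.pt.hom ≫ ·) (hr.fac (Arrow.rightFunc.mapCone s) j).symm).trans (Category.assoc _ _ _).symm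
  exact IsLimit.mk (fun s => Arrow.homMk (hl.lift (Arrow.leftFunc.mapCone s))
      (hr.lift (Arrow.rightFunc.mapCone s)) (hw s))
    (fun s j => Arrow.hom_ext _ _ (hl.fac _ j) (hr.fac _ j))
    (fun s m hm => Arrow.hom_ext _ _
      (hl.uniq (Arrow.leftFunc.mapCone s) m.left fun j => congrArg (fun m => m.left) (hm j))
      (hr.uniq (Arrow.rightFunc.mapCone s) m.right fun j => congrArg (fun m => m.right) (hm j)))

/-- The sources of a limit of arrows form a limit. -/
def isLimitLeft (hc : IsLimit c) : IsLimit (Arrow.leftFunc.mapCone c) := by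
  let up : ∀ s : Cone (F ⋙ Arrow.leftFunc), Cone F := fun s =>
    { pt := Arrow.mk (𝟙 s.pt)
      π := { app := fun j => Arrow.homMk (s.π.app j) (s.π.app j ≫ (F.obj j).hom) (Category.id_comp _).symm
             naturality := fun i j h => Arrow.hom_ext _ _ (s.π.naturality h) (by
               show 𝟙 _ ≫ s.π.app j ≫ (F.obj j).hom = (s.π.app i ≫ (F.obj i).hom) ≫ (F.map h).right
               rw [Category.id_comp, Category.assoc, ← (F.map h).w, ← Category.assoc]
               exact (congrArg (· ≫ (F.obj j).hom) (s.w h)).symm) } }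
  refine IsLimit.mk (fun s => (hc.lift (up s)).left) (fun s j => congrArg (fun m => m.left) (hc.fac (up s) j))
    fun s m hm => ?_
  refine congrArg (fun m => m.left) (hc.uniq (up s) (Arrow.homMk m (m ≫ c.pt.hom) (Category.id_comp _).symm) fun j =>
    Arrow.hom_ext _ _ (hm j) ?_)
  show (m ≫ c.pt.hom) ≫ (c.π.app j).right = s.π.app j ≫ (F.obj j).hom
  exact (Category.assoc _ _ _).trans ((congrArg (m ≫ ·) (c.π.app j).w.symm).trans
    ((Category.assoc _ _ _).symm.trans (congrArg (· ≫ (F.obj j).hom) (hm j))))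

/-- The targets of a limit of arrows form a limit. -/
def isLimitRight [HasInitial C] (hc : IsLimit c) : IsLimit (Arrow.rightFunc.mapCone c) := by
  let up : ∀ s : Cone (F ⋙ Arrow.rightFunc), Cone F := fun s =>
    { pt := Arrow.mk (initial.to s.pt)
      π := { app := fun j => Arrow.homMk (initial.to (F.obj j).left) (s.π.app j) (initial.hom_ext _ _)
             naturality := fun i j h => Arrow.hom_ext _ _ (initial.hom_ext _ _) (s.π.naturality h) } }
  refine IsLimit.mk (fun s => (hc.lift (up s)).right)
    (fun s j => congrArg (fun m => m.right) (hc.fac (up s) j)) fun s m hm => ?_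
  exact congrArg (fun m => m.right) (hc.uniq (up s)
    (Arrow.homMk (initial.to c.pt.left) m (initial.hom_ext _ _)) fun j =>
      Arrow.hom_ext _ _ (initial.hom_ext _ _) (hm j))

omit F in
/-- A constant cone on a connected category is a limit. -/
def isLimitOfConst [IsConnected J] {G : J ⥤ C} {d : Cone G} (h : ∀ j, IsIso (d.π.app j)) : IsLimit d := by
  refine IsLimit.mk (fun s => s.π.app (Classical.arbitrary J) ≫
    @inv _ _ _ _ (d.π.app (Classical.arbitrary J)) (h _)) (fun s j => ?_) fun s m hm => ?_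
  · haveI := h
    have hc := constant_of_preserves_morphisms (J := J) (fun j => s.π.app j ≫ inv (d.π.app j)) fun a b k => by
      rw [IsIso.eq_comp_inv, Category.assoc, ← d.w k, IsIso.inv_hom_id_assoc, s.w]
    rw [hc (Classical.arbitrary J) j, Category.assoc, IsIso.inv_hom_id, Category.comp_id]
  · haveI := h
    rw [IsIso.eq_comp_inv, hm]

end arrow

/-- Componentwise affine morphisms of arrows. -/
def affP : MorphismProperty (Arrow Scheme.{u}) := fun _ _ g => IsAffineHom g.left ∧ IsAffineHom g.right

instance : affP.{u}.IsMultiplicative where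
  id_mem A := ⟨inferInstanceAs (IsAffineHom (𝟙 A.left)), inferInstanceAs (IsAffineHom (𝟙 A.right))⟩
  comp_mem f g hf hg := by
    haveI := hf.1; haveI := hf.2; haveI := hg.1; haveI := hg.2
    exact ⟨inferInstanceAs (IsAffineHom (f.left ≫ g.left)), inferInstanceAs (IsAffineHom (f.right ≫ g.right))⟩

set_option maxHeartbeats 1000000 in
/-- A morphism of qcqs schemes is a limit of morphisms of schemes of finite type over the integers. -/
theorem exists_arrow_limit {X S : Scheme.{u}} (f : X ⟶ S) [CompactSpace X] [QuasiSeparatedSpace X]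
    [CompactSpace S] [QuasiSeparatedSpace S] :
    ∃ (I : Type u) (_ : Preorder I) (_ : IsDirected I (fun a b => a ≤ b)) (_ : Nonempty I)
      (D : Iᵒᵖ ⥤ Arrow Scheme.{u}) (c : Cone D) (_ : IsLimit c),
      c.pt = Arrow.mk f ∧ (∀ (i j : Iᵒᵖ) (a : i ⟶ j), IsAffineHom (D.map a).left ∧ IsAffineHom (D.map a).right) ∧
      ∀ i, LocallyOfFinitePresentation (D.obj i).hom ∧ CompactSpace (D.obj i).left ∧
        QuasiSeparatedSpace (D.obj i).left ∧ CompactSpace (D.obj i).right ∧
        QuasiSeparatedSpace (D.obj i).right ∧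
        LocallyOfFiniteType (IsTerminal.from specULiftZIsTerminal (D.obj i).right) := by
  obtain ⟨J, _, _, _, DS, cS₀, hcS₀, hDS, htrS, ⟨eS⟩⟩ :=
    exists_fp_limit (IsTerminal.from specULiftZIsTerminal S)
  haveI : CategoryTheory.IsConnected Jᵒᵖ := IsCofiltered.isConnected _
  let T : Scheme.{u} := Spec (CommRingCat.of (ULift.{u} ℤ))
  let Ss : Jᵒᵖ ⥤ Scheme.{u} := DS ⋙ Over.forget T
  let cS : Cone Ss :=
    { pt := S
      π := { app := fun j => eS.inv.left ≫ (cS₀.π.app j).left
             naturality := fun i j h => by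
               show 𝟙 S ≫ eS.inv.left ≫ (cS₀.π.app j).left = (eS.inv.left ≫ (cS₀.π.app i).left) ≫ (DS.map h).left
               rw [Category.id_comp, Category.assoc]
               exact congrArg (eS.inv.left ≫ ·) (congrArg (fun m => m.left) (cS₀.w h)).symm } }
  have hcS : IsLimit cS := IsLimit.ofIsoLimit (isLimitOfPreserves (Over.forget T) hcS₀)
    (Cone.ext ((Over.forget T).mapIso eS) fun j => by
      show (cS₀.π.app j).left = eS.hom.left ≫ eS.inv.left ≫ (cS₀.π.app j).left
      rw [← Category.assoc, ← Over.comp_left, eS.hom_inv_id]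
      exact (Category.id_comp _).symm)
  haveI : ∀ j, CompactSpace (Ss.obj j) := fun j => (hDS j).2.1
  haveI : ∀ j, QuasiSeparatedSpace (Ss.obj j) := fun j => (hDS j).2.2
  haveI hSs : ∀ {i j : Jᵒᵖ} (a : i ⟶ j), IsAffineHom (Ss.map a) := fun {i j} a => htrS i j a
  let tS : Ss ⟶ (Functor.const Jᵒᵖ).obj T :=
    { app := fun j => (DS.obj j).hom
      naturality := fun i j h => (Over.w (DS.map h)).trans (Category.comp_id _).symm }
  -- the inner systems
  choose B pB dirB neB E₀ c₀ hc₀ hE₀ htr₀ e₀ using fun j => exists_fp_limit (f ≫ cS.π.app j)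
  letI := pB
  haveI := dirB
  haveI := neB
  haveI : ∀ j, CategoryTheory.IsConnected (B j)ᵒᵖ := fun j => IsCofiltered.isConnected _
  let F : ∀ j, (B j)ᵒᵖ ⥤ Scheme.{u} := fun j => E₀ j ⋙ Over.forget (Ss.obj j)
  let cF : ∀ j, Cone (F j) := fun j =>
    { pt := X
      π := { app := fun b => (e₀ j).some.inv.left ≫ ((c₀ j).π.app b).left
             naturality := fun b b' h => by
               show 𝟙 X ≫ _ ≫ ((c₀ j).π.app b').left = ((e₀ j).some.inv.left ≫ ((c₀ j).π.app b).left) ≫ ((E₀ j).map h).left
               rw [Category.id_comp, Category.assoc]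
               exact congrArg ((e₀ j).some.inv.left ≫ ·) (congrArg (fun m => m.left) ((c₀ j).w h)).symm } }
  have hcF : ∀ j, IsLimit (cF j) := fun j =>
    IsLimit.ofIsoLimit (isLimitOfPreserves (Over.forget _) (hc₀ j))
      (Cone.ext ((Over.forget _).mapIso (e₀ j).some) fun b => by
        show ((c₀ j).π.app b).left = (e₀ j).some.hom.left ≫ (e₀ j).some.inv.left ≫ ((c₀ j).π.app b).left
        rw [← Category.assoc, ← Over.comp_left, (e₀ j).some.hom_inv_id]
        exact (Category.id_comp _).symm)
  have hFw : ∀ j b, (cF j).π.app b ≫ ((E₀ j).obj b).hom = f ≫ cS.π.app j := fun j b => by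
    show ((e₀ j).some.inv.left ≫ ((c₀ j).π.app b).left) ≫ _ = _
    rw [Category.assoc, Over.w ((c₀ j).π.app b)]
    exact Over.w (e₀ j).some.inv
  haveI : ∀ j b, CompactSpace ((F j).obj b) := fun j b => (hE₀ j b).2.1
  haveI : ∀ j b, QuasiSeparatedSpace ((F j).obj b) := fun j b => (hE₀ j b).2.2
  have hF : ∀ (j) {b b' : (B j)ᵒᵖ} (h : b ⟶ b'), IsAffineHom ((F j).map h) := fun j {b b'} h => htr₀ j b b' h
  let D : Jᵒᵖ ⥤ Arrow Scheme.{u} :=
    { obj := fun j => Arrow.mk (f ≫ cS.π.app j)
      map := fun {i j} h => Arrow.homMk (𝟙 X) (Ss.map h) (by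
        show 𝟙 X ≫ f ≫ cS.π.app j = (f ≫ cS.π.app i) ≫ Ss.map h
        rw [Category.id_comp, Category.assoc, cS.w])
      map_id := fun j => Arrow.hom_ext _ _ rfl (Ss.map_id j)
      map_comp := fun h h' => Arrow.hom_ext _ _ (Category.id_comp _).symm (Ss.map_comp h h') }
  let cD : Cone D :=
    { pt := Arrow.mk f
      π := { app := fun j => Arrow.homMk (𝟙 X) (cS.π.app j) (Category.id_comp _)
             naturality := fun i j h => Arrow.hom_ext _ _ rfl (cS.π.naturality h) } }
  have hcD : IsLimit cD := isLimitArrow cD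
    (isLimitOfConst fun j => inferInstanceAs (IsIso (𝟙 X))) hcS
  let E : ∀ j, (B j)ᵒᵖ ⥤ Arrow Scheme.{u} := fun j =>
    { obj := fun b => Arrow.mk ((E₀ j).obj b).hom
      map := fun {b b'} h => Arrow.homMk ((E₀ j).map h).left (𝟙 _) ((Over.w _).trans (Category.comp_id _).symm)
      map_id := fun b => Arrow.hom_ext _ _ (congrArg (fun m => m.left) ((E₀ j).map_id b)) rfl
      map_comp := fun h h' => Arrow.hom_ext _ _ (congrArg (fun m => m.left) ((E₀ j).map_comp h h'))
        (Category.id_comp _).symm }
  let η : ∀ j, (Functor.const _).obj (D.obj j) ⟶ E j := fun j =>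
    { app := fun b => Arrow.homMk ((cF j).π.app b) (𝟙 _) ((hFw j b).trans (Category.comp_id _).symm)
      naturality := fun b b' h => Arrow.hom_ext _ _ ((cF j).π.naturality h) rfl }
  have hη : ∀ j, IsLimit ({ pt := D.obj j, π := η j } : Cone (E j)) := fun j =>
    isLimitArrow _ (hcF j) (isLimitOfConst fun b => inferInstanceAs (IsIso (𝟙 (Ss.obj j))))
  obtain ⟨I, _, _, _, D', c', hc', hobj, hP, hpt⟩ :=
    LimNested.exists_directed_limit' cD η affP hcD hη
    (fun j b b' h => ⟨hF j h, inferInstanceAs (IsAffineHom (𝟙 (Ss.obj j)))⟩)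
    (fun j j' q b' => by
      haveI : ∀ {b b'} (h : b ⟶ b'), IsAffineHom ((F j).map h) := hF j
      haveI := (hE₀ j' b').1
      haveI : CompactSpace ((E₀ j').obj b').left := (hE₀ j' b').2.1
      haveI : QuasiSeparatedSpace ((E₀ j').obj b').left := (hE₀ j' b').2.2
      let τ : F j ⟶ (Functor.const _).obj (Ss.obj j') :=
        { app := fun b => ((E₀ j).obj b).hom ≫ Ss.map q
          naturality := fun b b' h => ((Category.assoc _ _ _).symm.trans
            (congrArg (· ≫ Ss.map q) (Over.w ((E₀ j).map h)))).trans (Category.comp_id _).symm }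
      obtain ⟨b₀, g, hg, hg'⟩ := Scheme.exists_π_app_comp_eq_of_locallyOfFinitePresentation
        (F j) τ ((E₀ j').obj b').hom (cF j) (hcF j) ((cF j').π.app b') (by
          ext b
          show (cF j).π.app b ≫ ((E₀ j).obj b).hom ≫ Ss.map q = (cF j').π.app b' ≫ ((E₀ j').obj b').hom
          rw [← Category.assoc, hFw, hFw, Category.assoc, cS.w])
      haveI : IsAffineHom ((cF j).π.app b₀ ≫ g) := by
        haveI : ∀ {b b'} (h : b ⟶ b'), IsAffineHom ((F j').map h) := hF j'
        rw [hg]
        exact isAffineHom_π_app _ _ (hcF j') b'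
      haveI : QuasiCompact g := quasiCompact_of_compactSpace g
      haveI : QuasiSeparated g := QuasiSeparated.of_quasiSeparatedSpace g
      obtain ⟨k, hk⟩ := Graft.exists_isAffineHom (hcF j) g
      refine ⟨k.left, Arrow.homMk ((F j).map k.hom ≫ g) (Ss.map q) ?_, ⟨hk, hSs q⟩,
        Arrow.hom_ext _ _ ?_ ?_⟩
      · show ((F j).map k.hom ≫ g) ≫ ((E₀ j').obj b').hom = ((E₀ j).obj k.left).hom ≫ Ss.map q
        rw [Category.assoc, hg']
        exact (τ.naturality k.hom).trans (Category.comp_id _)
      · show (cF j).π.app k.left ≫ (F j).map k.hom ≫ g = 𝟙 X ≫ (cF j').π.app b'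
        rw [← Category.assoc, (cF j).w, hg, Category.id_comp]
      · exact (Category.id_comp _).trans (Category.comp_id _).symm)
    (fun j j' b b' g h hgh => by
      haveI : ∀ {b b'} (h : b ⟶ b'), IsAffineHom ((F j).map h) := hF j
      haveI := (hE₀ j' b').1
      have hr : g.right = h.right := by
        have h1 : 𝟙 _ ≫ g.right = 𝟙 _ ≫ h.right := congrArg (fun m => m.right) hgh
        exact (Category.id_comp _).symm.trans (h1.trans (Category.id_comp _))
      let τ : F j ⟶ (Functor.const _).obj (Ss.obj j') :=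
        { app := fun b => ((E₀ j).obj b).hom ≫ g.right
          naturality := fun b b' h => ((Category.assoc _ _ _).symm.trans
            (congrArg (· ≫ g.right) (Over.w ((E₀ j).map h)))).trans (Category.comp_id _).symm }
      obtain ⟨b₁, q, hq⟩ := Scheme.exists_hom_comp_eq_comp_of_locallyOfFiniteType
        (F j) τ ((E₀ j').obj b').hom (cF j) (hcF j) g.left h.left g.w.symm
        (by show _ ≫ g.right = _; rw [hr]; exact h.w.symm) (congrArg (fun m => m.left) hgh)
      exact ⟨b₁, q, Arrow.hom_ext _ _ hq (by rw [Arrow.comp_right, Arrow.comp_right, hr])⟩)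
    (fun j j' b' g h hgh => by
      have hl : g.left = h.left := by
        have h1 : 𝟙 _ ≫ g.left = 𝟙 _ ≫ h.left := congrArg (fun m => m.left) hgh
        exact (Category.id_comp _).symm.trans (h1.trans (Category.id_comp _))
      haveI := (hDS j').1
      obtain ⟨j₁, q, hq⟩ := Scheme.exists_hom_comp_eq_comp_of_locallyOfFiniteType
        Ss tS (DS.obj j').hom cS hcS g.right h.right (specULiftZIsTerminal.hom_ext _ _)
        (specULiftZIsTerminal.hom_ext _ _) (congrArg (fun m => m.right) hgh)
      exact ⟨j₁, q, Arrow.hom_ext _ _ (by rw [Arrow.comp_left, Arrow.comp_left, hl]) hq⟩)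
  refine ⟨I, inferInstance, inferInstance, inferInstance, D', c', hc', hpt, hP, fun i => ?_⟩
  obtain ⟨j, b, h⟩ := hobj i
  rw [h]
  refine ⟨(hE₀ j b).1, (hE₀ j b).2.1, (hE₀ j b).2.2, (hDS j).2.1, (hDS j).2.2, ?_⟩
  have h' : IsTerminal.from specULiftZIsTerminal (Ss.obj j) = (DS.obj j).hom := specULiftZIsTerminal.hom_ext _ _
  haveI := (hDS j).1
  show LocallyOfFiniteType (IsTerminal.from specULiftZIsTerminal (Ss.obj j))
  rw [h']
  infer_instance

end Groth.Agent.TTApprox
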