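import Groth.Agent.TTApprox.RelStep

/-!
# Approximation relative to a quasi-compact open
-/

set_option autoImplicit false
set_option linter.style.haveILetI false
set_option backward.isDefEq.respectTransparency false
set_option backward.isDefEq.respectTransparency.types false

universe u

open CategoryTheory CategoryTheory.Limits AlgebraicGeometry TopologicalSpace Opposite

attribute [-instance] CategoryTheory.catToReflQuiver

noncomputable section

namespace Groth.Agent.TTApprox.Rel

/-- Extensions transported along equalities. -/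
theorem nonempty_ext_congr {V S : Scheme.{u}} {v v' : V ⟶ S} {P : Approx V} (h : v = v')
    (H : Nonempty (Ext v P)) : Nonempty (Ext v' P) := h ▸ H

/-- Approximation relative to a quasi-compact open. -/
theorem nonempty_ext_opens {S : Scheme.{u}} [CompactSpace S] [QuasiSeparatedSpace S] (V : S.Opens)
    (hV : IsCompact (V : Set S)) (P : Approx (V : Scheme.{u})) : Nonempty (Ext V.ι P) := by
  classical
  have hcov : ∀ x : S, ∃ A : S.affineOpens, x ∈ A.1 := fun x => by
    obtain ⟨A, hA, hxA, -⟩ := exists_isAffineOpen_mem_and_subset (x := x) (U := ⊤) trivial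
    exact ⟨⟨A, hA⟩, hxA⟩
  choose A hxA using hcov
  obtain ⟨s, hs⟩ := isCompact_univ.elim_finite_subcover (fun x => ((A x).1 : Set S))
    (fun x => (A x).1.2) (fun x _ => Set.mem_iUnion.2 ⟨x, hxA x⟩)
  have key : ∀ t : Finset S, IsCompact ((V ⊔ t.sup fun x => (A x).1 : S.Opens) : Set S) ∧
      ∃ h : V ≤ V ⊔ t.sup fun x => (A x).1, Nonempty (Ext (S.homOfLE h) P) := by
    intro t
    induction t using Finset.induction_on with
    | empty =>
      rw [Finset.sup_empty, sup_bot_eq]
      exact ⟨hV, le_rfl, nonempty_ext_congr (by simp) ⟨Ext.ofIso (Iso.refl _) P⟩⟩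
    | insert x t _ ih =>
      obtain ⟨hc, hle, ⟨E⟩⟩ := ih
      let U := V ⊔ t.sup fun x => (A x).1
      have e : V ⊔ (insert x t).sup (fun x => (A x).1) = U ⊔ (A x).1 := by
        rw [Finset.sup_insert, sup_comm (A x).1, ← sup_assoc]
      rw [e]
      refine ⟨by rw [Opens.coe_sup]; exact hc.union (A x).2.isCompact, hle.trans le_sup_left, ?_⟩
      let T := U ⊔ (A x).1
      haveI : QuasiSeparatedSpace (T : Scheme.{u}) := T.ι.isOpenEmbedding.quasiSeparatedSpace
      have himg : ∀ O : S.Opens, O ≤ T → T.ι '' (T.ι ⁻¹' (O : Set S)) = (O : Set S) := fun O hO => by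
        rw [Set.image_preimage_eq_inter_range, Scheme.Opens.range_ι]
        exact Set.inter_eq_left.2 hO
      let e' : (U : Scheme.{u}) ≅ ((T.ι ⁻¹ᵁ U : (T : Scheme.{u}).Opens) : Scheme.{u}) :=
        IsOpenImmersion.isoOfRangeEq U.ι ((T.ι ⁻¹ᵁ U).ι ≫ T.ι) (by
          rw [Scheme.Hom.comp_base, TopCat.coe_comp, Set.range_comp, Scheme.Opens.range_ι,
            Scheme.Opens.range_ι]
          exact (himg U le_sup_left).symm)
      have he : e'.hom ≫ (T.ι ⁻¹ᵁ U).ι ≫ T.ι = U.ι := IsOpenImmersion.isoOfRangeEq_hom_fac _ _ _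
      obtain ⟨E'⟩ := nonempty_ext_of_cover (T.ι ⁻¹ᵁ U) (T.ι ⁻¹ᵁ (A x).1) (fun z => Opens.mem_sup.mp z.2)
        (by
          rw [T.ι.isOpenEmbedding.isInducing.isCompact_iff]
          convert hc using 1
          exact himg U le_sup_left)
        ((A x).2.preimage_of_isOpenImmersion T.ι (by rw [Scheme.Opens.opensRange_ι]; exact le_sup_right))
        (E.comp (Ext.ofIso e' E.Q)).Q
      refine nonempty_ext_congr ?_ ⟨(E.comp (Ext.ofIso e' E.Q)).comp E'⟩
      rw [← cancel_mono T.ι, Category.assoc, Category.assoc, he, Scheme.homOfLE_ι, Scheme.homOfLE_ι]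
  obtain ⟨-, hle, ⟨E⟩⟩ := key s
  have htop : (V ⊔ s.sup fun x => (A x).1) = ⊤ := by
    refine top_le_iff.mp fun y _ => ?_
    obtain ⟨x, hx, hyx⟩ := Set.mem_iUnion₂.1 (hs (Set.mem_univ y))
    exact Opens.mem_sup.2 (Or.inr (Finset.le_sup (f := fun x => (A x).1) hx hyx))
  haveI : IsIso (V ⊔ s.sup fun x => (A x).1).ι := by rw [htop]; exact inferInstanceAs (IsIso S.topIso.hom)
  exact nonempty_ext_congr (Scheme.homOfLE_ι S hle)
    ⟨E.comp (Ext.ofIso (asIso (V ⊔ s.sup fun x => (A x).1).ι) E.Q)⟩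

end Groth.Agent.TTApprox.Rel
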