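import Mathlib.AlgebraicGeometry.Morphisms.FiniteType
import Mathlib.AlgebraicGeometry.Morphisms.Affine
import Mathlib.AlgebraicGeometry.Morphisms.QuasiSeparated

/-!
# Extending a model of a compact open of an affine scheme to a model of the affine scheme

Given an affine scheme `W` with a compact open `O` and a morphism `O ⟶ T` along which the equations of `O`
descend, we construct an affine scheme of finite type containing `T` as an open and receiving `W`: the
spectrum of a finitely generated subalgebra of `Γ(T) ×_{Γ(O)} Γ(W)`.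
-/

set_option autoImplicit false
set_option linter.style.haveILetI false
set_option backward.isDefEq.respectTransparency false
set_option backward.isDefEq.respectTransparency.types false

universe u

open CategoryTheory AlgebraicGeometry TopologicalSpace Opposite

noncomputable section

namespace Groth.Agent.TTApprox

/-- Restriction to a basic open of a quasi-compact quasi-separated scheme. -/
abbrev resTo {X : Scheme.{u}} (f : Γ(X, ⊤)) : Γ(X, ⊤) →+* Γ(X, X.basicOpen f) :=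
  (X.presheaf.map (homOfLE (le_top : X.basicOpen f ≤ ⊤)).op).hom

theorem isLocalization_top {X : Scheme.{u}} [CompactSpace X] [QuasiSeparatedSpace X] (f : Γ(X, ⊤)) :
    IsLocalization.Away f Γ(X, X.basicOpen f) :=
  isLocalization_basicOpen_of_qcqs (U := ⊤) isCompact_univ (isQuasiSeparated_univ_iff.mpr inferInstance) f

theorem resTo_surj {X : Scheme.{u}} [CompactSpace X] [QuasiSeparatedSpace X] (f : Γ(X, ⊤))
    (z : Γ(X, X.basicOpen f)) : ∃ (n : ℕ) (a : Γ(X, ⊤)), resTo f a = z * resTo f f ^ n := by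
  haveI := isLocalization_top f
  obtain ⟨⟨a, ⟨_, n, rfl⟩⟩, h⟩ := IsLocalization.surj (Submonoid.powers f) z
  refine ⟨n, a, ?_⟩
  rw [← map_pow]
  exact h.symm

theorem resTo_ker {X : Scheme.{u}} [CompactSpace X] [QuasiSeparatedSpace X] (f : Γ(X, ⊤))
    (a : Γ(X, ⊤)) (h : resTo f a = 0) : ∃ n : ℕ, f ^ n * a = 0 := by
  haveI := isLocalization_top f
  obtain ⟨⟨_, n, rfl⟩, hn⟩ :=
    (IsLocalization.map_eq_zero_iff (Submonoid.powers f) Γ(X, X.basicOpen f) a).1 h
  exact ⟨n, hn⟩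

theorem isIso_appLE_of_le_opensRange {X Y : Scheme.{u}} (f : X ⟶ Y) [IsOpenImmersion f] (D : Y.Opens)
    (hD : D ≤ f.opensRange) (E : X.Opens) (hE : E = f ⁻¹ᵁ D) : IsIso (f.appLE D E hE.le) := by
  subst hE
  rw [← Scheme.Hom.app_eq_appLE]
  exact f.isIso_app D hD

/-- Functions on an open `O` of an affine `W` after inverting `f` with `D(f) ⊆ O`. -/
theorem loc_facts {O W : Scheme.{u}} [IsAffine W] [CompactSpace O] [QuasiSeparatedSpace O] (b : O ⟶ W)
    [IsOpenImmersion b] (f : Γ(W, ⊤)) (hf : W.basicOpen f ≤ b.opensRange) :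
    (∀ o : Γ(O, ⊤), ∃ (n : ℕ) (a : Γ(W, ⊤)), b.appTop a = b.appTop f ^ n * o) ∧
      ∀ a : Γ(W, ⊤), b.appTop a = 0 → ∃ n : ℕ, f ^ n * a = 0 := by
  have hE : O.basicOpen (b.appTop f) = b ⁻¹ᵁ W.basicOpen f := (Scheme.preimage_basicOpen_top b f).symm
  let ψ := b.appLE (W.basicOpen f) (O.basicOpen (b.appTop f)) hE.le
  haveI : IsIso ψ := isIso_appLE_of_le_opensRange b _ hf _ hE
  have hψ : ∀ a : Γ(W, ⊤), ψ.hom (resTo f a) = resTo (b.appTop f) (b.appTop a) := by
    intro a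
    show (W.presheaf.map (homOfLE le_top).op ≫ b.appLE _ _ hE.le) a =
      (b.appTop ≫ O.presheaf.map (homOfLE le_top).op) a
    rw [Scheme.Hom.map_appLE]
    rfl
  refine ⟨fun o => ?_, fun a ha => ?_⟩
  · obtain ⟨z, hz⟩ := (ConcreteCategory.bijective_of_isIso ψ).2 (resTo (b.appTop f) o)
    obtain ⟨n, a, hna⟩ := resTo_surj f z
    have h1 : resTo (b.appTop f) (b.appTop a - b.appTop f ^ n * o) = 0 := by
      rw [map_sub, map_mul, map_pow, ← hψ, hna, map_mul, map_pow, hψ,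
        show ψ.hom z = resTo (b.appTop f) o from hz]
      ring
    obtain ⟨m, hm⟩ := resTo_ker _ _ h1
    exact ⟨m + n, f ^ m * a, by rw [map_mul, map_pow, pow_add]; linear_combination hm⟩
  · refine resTo_ker f a ((ConcreteCategory.bijective_of_isIso ψ).1 ?_)
    show ψ.hom (resTo f a) = ψ.hom 0
    rw [hψ, ha, map_zero, map_zero]

theorem isIso_of_isIso_appTop {X Y : Scheme.{u}} [IsAffine X] [IsAffine Y] (f : X ⟶ Y) [IsIso f.appTop] :
    IsIso f := by
  have h : f = X.isoSpec.hom ≫ Spec.map f.appTop ≫ Y.isoSpec.inv := by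
    rw [← Category.assoc, Iso.eq_comp_inv]
    exact (Scheme.isoSpec_hom_naturality f).symm
  rw [h]
  infer_instance

set_option maxHeartbeats 1000000 in
/-- Extension of a model from a compact open of an affine scheme to the affine scheme. -/
theorem exists_chart {B T W O : Scheme.{u}} [IsAffine B] [CompactSpace T] [QuasiSeparatedSpace T]
    [IsAffine W] [CompactSpace O] [QuasiSeparatedSpace O] (τ : T ⟶ B) [LocallyOfFiniteType τ]
    (ω : W ⟶ B) (π : O ⟶ T) (b : O ⟶ W) [IsOpenImmersion b] (hw : π ≫ τ = b ≫ ω)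
    {σ : Type u} [Finite σ] (f : σ → Γ(W, ⊤)) (c : σ → Γ(T, ⊤))
    (hcf : ∀ s, π.appTop (c s) = b.appTop (f s)) (hf : ⨆ s, W.basicOpen (f s) = b.opensRange)
    (hc : ⨆ s, T.basicOpen (c s) = ⊤) (haff : ∀ s, IsAffineOpen (T.basicOpen (c s))) :
    ∃ (W' : Scheme.{u}) (ω' : W' ⟶ B) (e : T ⟶ W') (w : W ⟶ W'), IsAffine W' ∧ LocallyOfFiniteType ω' ∧
      IsOpenImmersion e ∧ π ≫ e = b ≫ w ∧ w ≫ ω' = ω ∧ e ≫ ω' = τ ∧ w ⁻¹' Set.range e = Set.range b := by
  classical
  letI : Algebra Γ(B, ⊤) (Γ(T, ⊤) × Γ(W, ⊤)) := (τ.appTop.hom.prod ω.appTop.hom).toAlgebra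
  let P : Subalgebra Γ(B, ⊤) (Γ(T, ⊤) × Γ(W, ⊤)) :=
    { carrier := {x | π.appTop.hom x.1 = b.appTop.hom x.2}
      mul_mem' := fun {x y} hx hy => by
        show π.appTop.hom (x.1 * y.1) = b.appTop.hom (x.2 * y.2)
        rw [map_mul, map_mul, hx, hy]
      add_mem' := fun {x y} hx hy => by
        show π.appTop.hom (x.1 + y.1) = b.appTop.hom (x.2 + y.2)
        rw [map_add, map_add, hx, hy]
      algebraMap_mem' := fun r => congrArg (fun m : Γ(B, ⊤) ⟶ Γ(O, ⊤) => m r)
        (show τ.appTop ≫ π.appTop = ω.appTop ≫ b.appTop by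
          rw [← Scheme.Hom.comp_appTop, ← Scheme.Hom.comp_appTop, hw]) }
  have hloc := fun s => loc_facts b (f s) (le_of_le_of_eq (le_iSup (fun s => W.basicOpen (f s)) s) hf)
  -- generators of the functions on the basic opens
  let R (s : σ) : Γ(B, ⊤) →+* Γ(T, T.basicOpen (c s)) := (resTo (c s)).comp τ.appTop.hom
  have hfin : ∀ s, ∃ G : Finset Γ(T, T.basicOpen (c s)),
      Subring.closure (Set.range (R s) ∪ (G : Set Γ(T, T.basicOpen (c s)))) = ⊤ := by
    intro s
    have hR : R s = (τ.appLE ⊤ (T.basicOpen (c s)) le_top).hom := rfl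
    have hft : (R s).FiniteType := by
      rw [hR]
      exact HasRingHomProperty.appLE @LocallyOfFiniteType τ inferInstance
        ⟨⊤, isAffineOpen_top B⟩ ⟨_, haff s⟩ le_top
    letI := (R s).toAlgebra
    obtain ⟨G, hG⟩ : (⊤ : Subalgebra Γ(B, ⊤) Γ(T, T.basicOpen (c s))).FG :=
      Algebra.FiniteType.out (self := hft)
    refine ⟨G, eq_top_iff.2 fun x _ => ?_⟩
    have hx : x ∈ Algebra.adjoin Γ(B, ⊤) (G : Set Γ(T, T.basicOpen (c s))) := hG ▸ trivial
    induction hx using Algebra.adjoin_induction with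
    | mem y hy => exact Subring.subset_closure (Or.inr hy)
    | algebraMap r => exact Subring.subset_closure (Or.inl ⟨r, rfl⟩)
    | add _ _ _ _ h₁ h₂ => exact add_mem (h₁ trivial) (h₂ trivial)
    | mul _ _ _ _ h₁ h₂ => exact mul_mem (h₁ trivial) (h₂ trivial)
  choose G hG using hfin
  have hlift : ∀ s (z : Γ(T, T.basicOpen (c s))),
      ∃ (n : ℕ) (p : P), resTo (c s) p.1.1 = z * resTo (c s) (c s) ^ n := by
    intro s z
    obtain ⟨n₀, t, ht⟩ := resTo_surj (c s) z
    obtain ⟨n, a, ha⟩ := (hloc s).1 (π.appTop t)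
    refine ⟨n + n₀, ⟨(c s ^ n * t, a), ?_⟩, ?_⟩
    · show π.appTop.hom (c s ^ n * t) = b.appTop.hom a
      rw [map_mul, map_pow, hcf, ha]
    · show resTo (c s) (c s ^ n * t) = _
      rw [map_mul, map_pow, ht, pow_add]
      ring
  choose N p hp using hlift
  let ct : σ → Γ(T, ⊤) × Γ(W, ⊤) := fun s => (c s, f s)
  let gens : Set (Γ(T, ⊤) × Γ(W, ⊤)) := Set.range ct ∪ ⋃ s, (fun z => (p s z).1) '' (G s : Set _)
  have hgens : gens.Finite :=
    (Set.finite_range ct).union (Set.finite_iUnion fun s => (G s).finite_toSet.image _)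
  let A := Algebra.adjoin Γ(B, ⊤) gens
  have hAP : A ≤ P := Algebra.adjoin_le (by
    rintro _ (⟨s, rfl⟩ | h)
    · exact hcf s
    · obtain ⟨s, z, -, rfl⟩ := Set.mem_iUnion.1 h
      exact (p s z).2)
  haveI : Algebra.FiniteType Γ(B, ⊤) A :=
    (Subalgebra.fg_iff_finiteType A).1 ⟨hgens.toFinset, by rw [Set.Finite.coe_toFinset]⟩
  let pr₁ : CommRingCat.of A ⟶ Γ(T, ⊤) :=
    CommRingCat.ofHom ((RingHom.fst Γ(T, ⊤) Γ(W, ⊤)).comp A.val.toRingHom)
  let pr₂ : CommRingCat.of A ⟶ Γ(W, ⊤) :=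
    CommRingCat.ofHom ((RingHom.snd Γ(T, ⊤) Γ(W, ⊤)).comp A.val.toRingHom)
  let str : Γ(B, ⊤) ⟶ CommRingCat.of A := CommRingCat.ofHom (algebraMap Γ(B, ⊤) A)
  let W' : Scheme.{u} := Spec (CommRingCat.of A)
  let ω' : W' ⟶ B := Spec.map str ≫ B.isoSpec.inv
  let e : T ⟶ W' := T.toSpecΓ ≫ Spec.map pr₁
  let w : W ⟶ W' := W.toSpecΓ ≫ Spec.map pr₂
  haveI : LocallyOfFiniteType (Spec.map str) :=
    (HasRingHomProperty.Spec_iff (P := @LocallyOfFiniteType)).2 (RingHom.finiteType_algebraMap.2 ‹_›)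
  have hover : ∀ {Z : Scheme.{u}} (g : Z ⟶ B) (q : CommRingCat.of A ⟶ Γ(Z, ⊤)),
      str ≫ q = g.appTop → (Z.toSpecΓ ≫ Spec.map q) ≫ ω' = g := by
    intro Z g q hq
    show (Z.toSpecΓ ≫ Spec.map q) ≫ Spec.map str ≫ B.isoSpec.inv = g
    rw [Category.assoc, ← Spec.map_comp_assoc, hq, ← Scheme.toSpecΓ_naturality_assoc]
    exact (congrArg (g ≫ ·) B.isoSpec.hom_inv_id).trans (Category.comp_id g)
  have hmem : ∀ x : A, π.appTop.hom x.1.1 = b.appTop.hom x.1.2 := fun x => hAP x.2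
  have hsq : π ≫ e = b ≫ w := by
    show π ≫ T.toSpecΓ ≫ Spec.map pr₁ = b ≫ W.toSpecΓ ≫ Spec.map pr₂
    rw [Scheme.toSpecΓ_naturality_assoc, Scheme.toSpecΓ_naturality_assoc, ← Spec.map_comp,
      ← Spec.map_comp]
    congr 2
    ext x
    exact hmem x
  let x : σ → A := fun s => ⟨ct s, Algebra.subset_adjoin (Or.inl ⟨s, rfl⟩)⟩
  let Vs : σ → W'.Opens := fun s => PrimeSpectrum.basicOpen (x s)
  have hpre : ∀ s, e ⁻¹ᵁ Vs s = T.basicOpen (c s) := fun s => by
    show T.toSpecΓ ⁻¹ᵁ (Spec.map pr₁ ⁻¹ᵁ PrimeSpectrum.basicOpen (x s)) = _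
    rw [SpecMap_preimage_basicOpen]
    exact Scheme.toSpecΓ_preimage_basicOpen T _
  have hprew : ∀ s, w ⁻¹ᵁ Vs s = W.basicOpen (f s) := fun s => by
    show W.toSpecΓ ⁻¹ᵁ (Spec.map pr₂ ⁻¹ᵁ PrimeSpectrum.basicOpen (x s)) = _
    rw [SpecMap_preimage_basicOpen]
    exact Scheme.toSpecΓ_preimage_basicOpen W _
  have hVaff : ∀ s, IsAffineOpen (Vs s) := fun s =>
    (IsAffineOpen.Spec_basicOpen (R := CommRingCat.of A) (x s))
  -- the chart is an isomorphism over each basic open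
  have hiso : ∀ s, IsIso (e ∣_ Vs s) := by
    intro s
    haveI : IsAffine (Vs s).toScheme := hVaff s
    haveI : IsAffine (e ⁻¹ᵁ Vs s).toScheme := (hpre s).symm ▸ haff s
    letI : Algebra A Γ(W', Vs s) := ((Scheme.ΓSpecIso (CommRingCat.of A)).inv ≫
      W'.presheaf.map (homOfLE (le_top : Vs s ≤ ⊤)).op).hom.toAlgebra
    let ψ := e.appLE (Vs s) (T.basicOpen (c s)) (hpre s).ge
    have hψ : ∀ a : A, ψ.hom (algebraMap A Γ(W', Vs s) a) = resTo (c s) a.1.1 := by
      intro a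
      have h1 : e.appTop ((Scheme.ΓSpecIso (CommRingCat.of A)).inv a) = a.1.1 := by
        have h2 : e.appTop = (Scheme.ΓSpecIso (CommRingCat.of A)).hom ≫ pr₁ := by
          show (Spec.map pr₁).appTop ≫ T.toSpecΓ.appTop = _
          rw [Scheme.toSpecΓ_appTop, Scheme.ΓSpecIso_naturality]
        rw [h2]
        exact congrArg pr₁ (Iso.inv_hom_id_apply (Scheme.ΓSpecIso (CommRingCat.of A)) a)
      rw [← h1]
      show (W'.presheaf.map (homOfLE (le_top : Vs s ≤ ⊤)).op ≫ e.appLE _ _ (hpre s).ge)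
          ((Scheme.ΓSpecIso (CommRingCat.of A)).inv a) =
        (e.appTop ≫ T.presheaf.map (homOfLE le_top).op) ((Scheme.ΓSpecIso (CommRingCat.of A)).inv a)
      rw [Scheme.Hom.map_appLE]
      rfl
    haveI : IsLocalization.Away (x s) Γ(W', Vs s) := by
      convert! StructureSheaf.IsLocalization.to_basicOpen (CommRingCat.of A) (x s) using 1
      apply Algebra.algebra_ext
      intro _
      rfl
    have hu : IsUnit (algebraMap A Γ(W', Vs s) (x s)) :=
      IsLocalization.map_units Γ(W', Vs s) ⟨x s, Submonoid.mem_powers _⟩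
    have hbij : Function.Bijective ψ.hom := by
      refine ⟨(injective_iff_map_eq_zero ψ.hom).2 fun z hz => ?_, RingHom.range_eq_top.1 ?_⟩
      · obtain ⟨⟨a, ⟨_, n, rfl⟩⟩, ha⟩ := IsLocalization.surj (Submonoid.powers (x s)) z
        have h0 : resTo (c s) a.1.1 = 0 := by rw [← hψ, ← ha, map_mul, hz, zero_mul]
        obtain ⟨m, hm⟩ := resTo_ker _ _ h0
        have h1 : b.appTop.hom (f s ^ m * a.1.2) = 0 := by
          rw [map_mul, map_pow, ← hcf, ← hmem, ← map_pow, ← map_mul, hm, map_zero]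
        obtain ⟨m', hm'⟩ := (hloc s).2 _ h1
        have h2 : x s ^ (m' + m) * a = 0 := Subtype.ext (Prod.ext
          (show c s ^ (m' + m) * a.1.1 = 0 by rw [pow_add, mul_assoc, hm, mul_zero])
          (show f s ^ (m' + m) * a.1.2 = 0 by rw [pow_add, mul_assoc, hm']))
        have h3 : algebraMap A Γ(W', Vs s) a = 0 :=
          (IsLocalization.map_eq_zero_iff (Submonoid.powers (x s)) _ _).2 ⟨⟨_, m' + m, rfl⟩, h2⟩
        rw [h3] at ha
        exact (IsLocalization.map_units Γ(W', Vs s) (⟨_, n, rfl⟩ : Submonoid.powers (x s))).mul_left_eq_zero.1 ha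
      · rw [eq_top_iff, ← hG s, Subring.closure_le]
        rintro _ (⟨r, rfl⟩ | hz)
        · exact ⟨algebraMap A _ (algebraMap Γ(B, ⊤) A r), hψ _⟩
        · rename_i z
          refine ⟨algebraMap A _ ⟨(p s z).1, Algebra.subset_adjoin (Or.inr (Set.mem_iUnion.2 ⟨s, z, hz, rfl⟩))⟩ *
            ↑(hu.pow (N s z)).unit⁻¹, ?_⟩
          have h1 : ψ.hom (algebraMap A _ (x s) ^ N s z) = resTo (c s) (c s) ^ N s z := by
            rw [map_pow, hψ]
          have h2 : IsUnit (resTo (c s) (c s) ^ N s z) := by rw [← h1]; exact (hu.pow _).map ψ.hom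
          refine h2.mul_left_inj.1 ?_
          rw [map_mul, ← h1, mul_assoc, ← map_mul, IsUnit.val_inv_mul, map_one, mul_one, hψ, h1, hp]
    haveI : IsIso ψ := (ConcreteCategory.isIso_iff_bijective ψ).2 hbij
    haveI : IsIso (e.app (Vs s)) := by
      have : e.app (Vs s) = ψ ≫ T.presheaf.map (homOfLE (hpre s).le).op := by
        rw [Scheme.Hom.appLE_map, Scheme.Hom.app_eq_appLE]
      rw [this]
      haveI : IsIso (homOfLE (hpre s).le) := ⟨homOfLE (hpre s).ge, rfl, rfl⟩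
      infer_instance
    haveI : IsIso (e.app ((Vs s).ι ''ᵁ ⊤)) := by
      rw [Scheme.Opens.ι_image_top]
      infer_instance
    haveI : IsIso (e ∣_ Vs s).appTop := by
      rw [morphismRestrict_appTop]
      infer_instance
    exact isIso_of_isIso_appTop _
  let V : W'.Opens := ⨆ s, Vs s
  have hrangeV : ∀ t, e t ∈ V := fun t => by
    obtain ⟨s, hs⟩ := Opens.mem_iSup.1 (hc.ge (Set.mem_univ t) : t ∈ ⨆ s, T.basicOpen (c s))
    exact Opens.mem_iSup.2 ⟨s, (hpre s).ge hs⟩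
  have hVrange : ∀ v ∈ V, v ∈ Set.range e := fun v hv => by
    obtain ⟨s, hs⟩ := Opens.mem_iSup.1 hv
    haveI := hiso s
    obtain ⟨t, ht⟩ := (e ∣_ Vs s).surjective ⟨v, hs⟩
    refine ⟨t.1, ?_⟩
    have h := congrArg Subtype.val ht
    rwa [morphismRestrict_base] at h
  haveI : IsOpenImmersion e := by
    let e' : T ⟶ V.toScheme := IsOpenImmersion.lift V.ι e (by
      rw [Scheme.Opens.range_ι]; rintro _ ⟨t, rfl⟩; exact hrangeV t)
    have he' : e' ≫ V.ι = e := IsOpenImmersion.lift_fac _ _ _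
    suffices IsOpenImmersion e' by rw [← he']; infer_instance
    refine IsZariskiLocalAtTarget.of_iSup_eq_top (P := @IsOpenImmersion) (fun s => V.ι ⁻¹ᵁ Vs s) ?_ fun s => ?_
    · rw [← Scheme.Hom.preimage_iSup]
      exact Opens.ext (Set.eq_univ_of_forall fun v => v.2)
    · haveI := hiso s
      have h1 : IsOpenImmersion ((e' ∣_ V.ι ⁻¹ᵁ Vs s) ≫ (V.ι ∣_ Vs s)) := by
        rw [← morphismRestrict_comp]
        have hg : ∀ g : T ⟶ W', g = e → IsOpenImmersion (g ∣_ Vs s) := by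
          rintro g rfl
          infer_instance
        exact hg _ he'
      exact IsOpenImmersion.of_comp _ (V.ι ∣_ Vs s)
  refine ⟨W', ω', e, w, inferInstance, inferInstance, inferInstance, hsq, hover ω pr₂ ?_,
    hover τ pr₁ ?_, ?_⟩
  · rfl
  · rfl
  · have hV : Set.range e = (V : Set W') := Set.Subset.antisymm
      (by rintro _ ⟨t, rfl⟩; exact hrangeV t) hVrange
    have hb : w ⁻¹ᵁ V = b.opensRange := by
      rw [Scheme.Hom.preimage_iSup, ← hf]
      exact iSup_congr hprew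
    rw [hV]
    exact congrArg (fun U : W.Opens => (U : Set W)) hb

end Groth.Agent.TTApprox
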