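import Groth.Agent.TTApprox.Step

/-!
# A morphism of quasi-compact quasi-separated schemes is affine over one of finite presentation
-/

set_option autoImplicit false
set_option linter.style.haveILetI false
set_option backward.isDefEq.respectTransparency false
set_option backward.isDefEq.respectTransparency.types false

universe u

open CategoryTheory CategoryTheory.Limits AlgebraicGeometry TopologicalSpace Opposite

attribute [-instance] CategoryTheory.catToReflQuiver

noncomputable section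

namespace Groth.Agent.TTApprox

open Groth.Agent

theorem hasAff_sup {X S : Scheme.{u}} (f : X ⟶ S) [QuasiSeparatedSpace X] [QuasiSeparatedSpace S]
    (U W : X.Opens) (hUc : IsCompact (U : Set X)) (hW : IsAffineOpen W) (A : S.Opens) (hA : IsAffineOpen A)
    (hle : W ≤ f ⁻¹ᵁ A) (hU : HasAff (U.ι ≫ f)) : HasAff ((U ⊔ W).ι ≫ f) := by
  let T := U ⊔ W
  haveI : QuasiSeparatedSpace (T : Scheme.{u}) := T.ι.isOpenEmbedding.quasiSeparatedSpace
  let e : ((T.ι ⁻¹ᵁ U : (T : Scheme.{u}).Opens) : Scheme.{u}) ≅ (U : Scheme.{u}) :=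
    IsOpenImmersion.isoOfRangeEq ((T.ι ⁻¹ᵁ U).ι ≫ T.ι) U.ι (by
      rw [Scheme.Hom.comp_base, TopCat.coe_comp, Set.range_comp, Scheme.Opens.range_ι,
        Scheme.Opens.range_ι]
      show T.ι '' (T.ι ⁻¹' (U : Set X)) = (U : Set X)
      rw [Set.image_preimage_eq_inter_range, Scheme.Opens.range_ι]
      exact Set.inter_eq_left.2 fun x hx => Opens.mem_sup.mpr (.inl hx))
  have he : e.hom ≫ U.ι = (T.ι ⁻¹ᵁ U).ι ≫ T.ι := IsOpenImmersion.isoOfRangeEq_hom_fac _ _ _
  have hT := hU.of_iso e
  rw [reassoc_of% he] at hT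
  refine hasAff_of_cover (T.ι ≫ f) (T.ι ⁻¹ᵁ U) (T.ι ⁻¹ᵁ W) (fun x => Opens.mem_sup.mp x.2) ?_ ?_ A hA
    ((Scheme.Hom.preimage_mono _ hle).trans_eq (Scheme.Hom.comp_preimage T.ι f A).symm) hT
  · rw [T.ι.isOpenEmbedding.isInducing.isCompact_iff]
    convert hUc using 1
    show T.ι '' (T.ι ⁻¹' (U : Set X)) = _
    rw [Set.image_preimage_eq_inter_range, Scheme.Opens.range_ι]
    exact Set.inter_eq_left.2 fun x hx => Opens.mem_sup.mpr (.inl hx)
  · refine hW.preimage_of_isOpenImmersion T.ι ?_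
    rw [Scheme.Opens.opensRange_ι]
    exact le_sup_right

/-- A morphism from a quasi-compact quasi-separated scheme to a quasi-separated one is affine over a
quasi-compact quasi-separated scheme of finite presentation. -/
theorem exists_hasAff {X S : Scheme.{u}} (f : X ⟶ S) [CompactSpace X] [QuasiSeparatedSpace X]
    [QuasiSeparatedSpace S] : HasAff f := by
  classical
  have hcov : ∀ x : X, ∃ V : X.affineOpens, x ∈ V.1 ∧
      ∃ A : S.Opens, IsAffineOpen A ∧ V.1 ≤ f ⁻¹ᵁ A := fun x => by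
    obtain ⟨A, hA, hxA, -⟩ := exists_isAffineOpen_mem_and_subset (x := f x) (U := ⊤) trivial
    obtain ⟨V, hV, hxV, hle⟩ := exists_isAffineOpen_mem_and_subset (x := x) (U := f ⁻¹ᵁ A) hxA
    exact ⟨⟨V, hV⟩, hxV, A, hA, hle⟩
  choose V hxV A hA hle using hcov
  obtain ⟨s, hs⟩ := isCompact_univ.elim_finite_subcover (fun x => ((V x).1 : Set X))
    (fun x => (V x).1.2) (fun x _ => Set.mem_iUnion.2 ⟨x, hxV x⟩)
  have key : ∀ t : Finset X, IsCompact ((t.sup fun x => (V x).1 : X.Opens) : Set X) ∧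
      HasAff ((t.sup fun x => (V x).1).ι ≫ f) := by
    intro t
    induction t using Finset.induction_on with
    | empty =>
      rw [Finset.sup_empty]
      refine ⟨isCompact_empty, ?_⟩
      haveI : IsEmpty ((⊥ : X.Opens) : Scheme.{u}) := ⟨fun x => x.2⟩
      haveI : IsAffine ((⊥ : X.Opens) : Scheme.{u}) := isAffine_of_isEmpty
      exact ⟨_, (⊥ : X.Opens).ι ≫ f, 𝟙 _, inferInstance, inferInstance, inferInstance, inferInstance,
        Category.id_comp _⟩
    | insert x t _ ih =>
      rw [Finset.sup_insert, sup_comm]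
      exact ⟨by rw [Opens.coe_sup]; exact ih.1.union (V x).2.isCompact,
        hasAff_sup f _ _ ih.1 (V x).2 _ (hA x) (hle x) ih.2⟩
  have htop : (s.sup fun x => (V x).1) = (⊤ : X.Opens) := by
    refine top_le_iff.mp fun y _ => ?_
    obtain ⟨x, hx, hyx⟩ := Set.mem_iUnion₂.1 (hs (Set.mem_univ y))
    exact Finset.le_sup (f := fun x => (V x).1) hx hyx
  have h := (key s).2
  rw [htop] at h
  have := h.of_iso X.topIso.symm
  simpa using this

end Groth.Agent.TTApprox
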