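import Groth.Agent.TTApprox.RelExt

/-!
# Limits and affine morphisms tested on two open charts
-/

set_option autoImplicit false
set_option linter.style.haveILetI false
set_option backward.isDefEq.respectTransparency false
set_option backward.isDefEq.respectTransparency.types false

universe u

open CategoryTheory CategoryTheory.Limits AlgebraicGeometry TopologicalSpace Opposite

attribute [-instance] CategoryTheory.catToReflQuiver

noncomputable section

namespace Groth.Agent.TTApprox.Rel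

/-- The open cover by two jointly surjective open immersions. -/
def cover₂ {A B Q : Scheme.{u}} (a : A ⟶ Q) (b : B ⟶ Q) [IsOpenImmersion a] [IsOpenImmersion b]
    (hcov : ∀ x : Q, x ∈ Set.range a ∨ x ∈ Set.range b) : Q.OpenCover :=
  Scheme.Cover.mkOfCovers Bool (fun t => Bool.rec A B t)
    (fun t => Bool.rec (motive := fun t => Bool.rec A B t ⟶ Q) a b t)
    (fun x => (hcov x).elim (fun ⟨z, hz⟩ => ⟨false, z, hz⟩) (fun ⟨z, hz⟩ => ⟨true, z, hz⟩))
    (fun t => by cases t <;> infer_instance)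

/-- A morphism which is affine over both members of an open cover is affine. -/
theorem isAffineHom_of_two {A B Q A' B' Q' : Scheme.{u}} (a : A ⟶ Q) (b : B ⟶ Q) [IsOpenImmersion a]
    [IsOpenImmersion b] (hcov : ∀ x : Q, x ∈ Set.range a ∨ x ∈ Set.range b) {g : Q' ⟶ Q}
    {a' : A' ⟶ Q'} {b' : B' ⟶ Q'} {gA : A' ⟶ A} {gB : B' ⟶ B} (sA : IsPullback gA a' a g)
    (sB : IsPullback gB b' b g) [IsAffineHom gA] [IsAffineHom gB] : IsAffineHom g := by
  refine IsZariskiLocalAtTarget.of_openCover (cover₂ a b hcov) fun t => ?_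
  cases t
  · show IsAffineHom (pullback.snd g a)
    exact sA.flip.isoPullback_inv_snd ▸ inferInstance
  · show IsAffineHom (pullback.snd g b)
    exact sB.flip.isoPullback_inv_snd ▸ inferInstance

variable {J : Type u} [SmallCategory J] [IsCofiltered J] {D : J ⥤ Scheme.{u}} {c : Cone D}
  {G : J ⥤ Scheme.{u}} (ι : G ⟶ D) [∀ j, IsOpenImmersion (ι.app j)] {cG : Cone G} (hcG : IsLimit cG)
  (u : cG.pt ⟶ c.pt) (hu : ∀ j, cG.π.app j ≫ ι.app j = u ≫ c.π.app j)
  (hmap : ∀ {i j : J} (f : i ⟶ j) (x : D.obj i), D.map f x ∈ Set.range (ι.app j) → x ∈ Set.range (ι.app i))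

omit [∀ j, IsOpenImmersion (ι.app j)] in
include hmap in
/-- Whether a cone lands in the chart does not depend on the stage. -/
theorem mem_range_iff (s : Cone D) (i j : J) (x : s.pt) :
    s.π.app i x ∈ Set.range (ι.app i) ↔ s.π.app j x ∈ Set.range (ι.app j) := by
  have key : ∀ {i j : J} (f : i ⟶ j),
      (s.π.app i x ∈ Set.range (ι.app i) ↔ s.π.app j x ∈ Set.range (ι.app j)) := by
    intro i j f
    have h : s.π.app j x = D.map f (s.π.app i x) :=
      (congrArg (fun m : s.pt ⟶ D.obj j => m x) (s.w f)).symm.trans (Scheme.Hom.comp_apply _ _ x)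
    rw [h]
    refine ⟨?_, hmap f _⟩
    rintro ⟨z, hz⟩
    refine ⟨G.map f z, ?_⟩
    rw [← hz, ← Scheme.Hom.comp_apply, ι.naturality, Scheme.Hom.comp_apply]
  obtain ⟨k, f, g, -⟩ := IsCofilteredOrEmpty.cone_objs i j
  exact (key f).symm.trans (key g)

include hcG hu hmap in
/-- A compatible family of morphisms landing in the chart lifts to the limit. -/
theorem exists_lift (s : Cone D) {T : Scheme.{u}} (t : T ⟶ s.pt) (j₀ : J)
    (h : ∀ x, s.π.app j₀ (t x) ∈ Set.range (ι.app j₀)) :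
    ∃ l : T ⟶ c.pt, ∀ j, l ≫ c.π.app j = t ≫ s.π.app j := by
  have h' : ∀ j, Set.range (t ≫ s.π.app j) ⊆ Set.range (ι.app j) := fun j => by
    rintro _ ⟨x, rfl⟩
    rw [Scheme.Hom.comp_apply]
    exact (mem_range_iff ι hmap s j₀ j (t x)).1 (h x)
  let d : Cone G :=
    { pt := T
      π := { app := fun j => IsOpenImmersion.lift (ι.app j) (t ≫ s.π.app j) (h' j)
             naturality := fun i j f => by
               refine (Category.id_comp _).trans ?_
               rw [← cancel_mono (ι.app j), IsOpenImmersion.lift_fac, Category.assoc, ι.naturality,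
                 IsOpenImmersion.lift_fac_assoc, Category.assoc, s.w] } }
  refine ⟨hcG.lift d ≫ u, fun j => ?_⟩
  rw [Category.assoc, ← hu, hcG.fac_assoc]
  exact IsOpenImmersion.lift_fac _ _ (h' j)

include hcG hu in
/-- Morphisms into the chart of the limit are determined by their projections. -/
theorem hom_ext' [IsOpenImmersion u] {T : Scheme.{u}} (g g' : T ⟶ c.pt)
    (hg : Set.range g ⊆ Set.range u) (hg' : Set.range g' ⊆ Set.range u)
    (h : ∀ j, g ≫ c.π.app j = g' ≫ c.π.app j) : g = g' := by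
  rw [← IsOpenImmersion.lift_fac u g hg, ← IsOpenImmersion.lift_fac u g' hg']
  refine congrArg (· ≫ u) (hcG.hom_ext fun j => ?_)
  rw [← cancel_mono (ι.app j), Category.assoc, Category.assoc, hu, IsOpenImmersion.lift_fac_assoc,
    IsOpenImmersion.lift_fac_assoc]
  exact h j

/-- A cone covered by two charts whose restrictions are limits is a limit. -/
theorem isLimit_of_two {J : Type u} [SmallCategory J] [IsCofiltered J] {D : J ⥤ Scheme.{u}} (c : Cone D)
    {GA GB : J ⥤ Scheme.{u}} (ιA : GA ⟶ D) (ιB : GB ⟶ D) [∀ j, IsOpenImmersion (ιA.app j)]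
    [∀ j, IsOpenImmersion (ιB.app j)] {cA : Cone GA} {cB : Cone GB} (hcA : IsLimit cA) (hcB : IsLimit cB)
    (uA : cA.pt ⟶ c.pt) (uB : cB.pt ⟶ c.pt) [IsOpenImmersion uA] [IsOpenImmersion uB]
    (huA : ∀ j, cA.π.app j ≫ ιA.app j = uA ≫ c.π.app j)
    (huB : ∀ j, cB.π.app j ≫ ιB.app j = uB ≫ c.π.app j)
    (hA : ∀ {i j : J} (f : i ⟶ j) (x : D.obj i), D.map f x ∈ Set.range (ιA.app j) → x ∈ Set.range (ιA.app i))
    (hB : ∀ {i j : J} (f : i ⟶ j) (x : D.obj i), D.map f x ∈ Set.range (ιB.app j) → x ∈ Set.range (ιB.app i))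
    (hA' : ∀ (j : J) (z : c.pt), c.π.app j z ∈ Set.range (ιA.app j) → z ∈ Set.range uA)
    (hB' : ∀ (j : J) (z : c.pt), c.π.app j z ∈ Set.range (ιB.app j) → z ∈ Set.range uB)
    (hcov : ∀ (j : J) (x : D.obj j), x ∈ Set.range (ιA.app j) ∨ x ∈ Set.range (ιB.app j)) :
    Nonempty (IsLimit c) := by
  obtain ⟨j₀⟩ : Nonempty J := IsCofiltered.nonempty
  have key : ∀ (s : Cone D),
      ∃! l : s.pt ⟶ c.pt, ∀ j, l ≫ c.π.app j = s.π.app j := by
    intro s
    let OA : s.pt.Opens := s.π.app j₀ ⁻¹ᵁ (ιA.app j₀).opensRange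
    let OB : s.pt.Opens := s.π.app j₀ ⁻¹ᵁ (ιB.app j₀).opensRange
    have hs : ∀ x, x ∈ OA ∨ x ∈ OB := fun x => hcov j₀ (s.π.app j₀ x)
    have hext : ∀ {T : Scheme.{u}} (t : T ⟶ s.pt) (g g' : T ⟶ c.pt),
        (∀ j, g ≫ c.π.app j = t ≫ s.π.app j) → (∀ j, g' ≫ c.π.app j = t ≫ s.π.app j) → g = g' := by
      intro T t g g' hg hg'
      refine Scheme.Cover.hom_ext (T.openCoverOfIsOpenCover
        (fun b : ULift.{u} Bool => bif b.down then t ⁻¹ᵁ OA else t ⁻¹ᵁ OB) ?_) _ _ ?_
      · refine TopologicalSpace.IsOpenCover.mk (eq_top_iff.2 fun x _ => ?_)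
        rcases hs (t x) with hx | hx
        · exact Opens.mem_iSup.2 ⟨⟨true⟩, hx⟩
        · exact Opens.mem_iSup.2 ⟨⟨false⟩, hx⟩
      · rintro ⟨_ | _⟩
        · show (t ⁻¹ᵁ OB).ι ≫ g = (t ⁻¹ᵁ OB).ι ≫ g'
          have hr : ∀ (g₁ : T ⟶ c.pt), (∀ j, g₁ ≫ c.π.app j = t ≫ s.π.app j) →
              Set.range ((t ⁻¹ᵁ OB).ι ≫ g₁) ⊆ Set.range uB := by
            rintro g₁ hg₁ _ ⟨x, rfl⟩
            refine hB' j₀ _ ?_
            let y : T := (t ⁻¹ᵁ OB).ι x
            have e : c.π.app j₀ (g₁ y) = s.π.app j₀ (t y) :=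
              (Scheme.Hom.comp_apply g₁ (c.π.app j₀) y).symm.trans
                ((congrArg (fun m : T ⟶ D.obj j₀ => m y) (hg₁ j₀)).trans (Scheme.Hom.comp_apply _ _ y))
            rw [Scheme.Hom.comp_apply]
            exact e ▸ x.2
          exact hom_ext' ιB hcB uB huB _ _ (hr g hg) (hr g' hg') fun j => by
            rw [Category.assoc, hg, Category.assoc, hg']
        · show (t ⁻¹ᵁ OA).ι ≫ g = (t ⁻¹ᵁ OA).ι ≫ g'
          have hr : ∀ (g₁ : T ⟶ c.pt), (∀ j, g₁ ≫ c.π.app j = t ≫ s.π.app j) →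
              Set.range ((t ⁻¹ᵁ OA).ι ≫ g₁) ⊆ Set.range uA := by
            rintro g₁ hg₁ _ ⟨x, rfl⟩
            refine hA' j₀ _ ?_
            let y : T := (t ⁻¹ᵁ OA).ι x
            have e : c.π.app j₀ (g₁ y) = s.π.app j₀ (t y) :=
              (Scheme.Hom.comp_apply g₁ (c.π.app j₀) y).symm.trans
                ((congrArg (fun m : T ⟶ D.obj j₀ => m y) (hg₁ j₀)).trans (Scheme.Hom.comp_apply _ _ y))
            rw [Scheme.Hom.comp_apply]
            exact e ▸ x.2
          exact hom_ext' ιA hcA uA huA _ _ (hr g hg) (hr g' hg') fun j => by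
            rw [Category.assoc, hg, Category.assoc, hg']
    obtain ⟨lA, hlA⟩ := exists_lift ιA hcA uA huA hA s OA.ι j₀ fun x => x.2
    obtain ⟨lB, hlB⟩ := exists_lift ιB hcB uB huB hB s OB.ι j₀ fun x => x.2
    let 𝒰 : s.pt.OpenCover := cover₂ OA.ι OB.ι fun x =>
      (hs x).imp (fun h => ⟨⟨x, h⟩, rfl⟩) (fun h => ⟨⟨x, h⟩, rfl⟩)
    let f : ∀ i, 𝒰.X i ⟶ c.pt := fun i => Bool.rec (motive := fun t => Bool.rec (OA : Scheme.{u}) OB t ⟶ c.pt) lA lB i
    have hf : ∀ i j, f i ≫ c.π.app j = 𝒰.f i ≫ s.π.app j := fun i j => by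
      cases i
      · exact hlA j
      · exact hlB j
    let l := 𝒰.glueMorphisms f fun a b =>
      hext (pullback.fst (𝒰.f a) (𝒰.f b) ≫ 𝒰.f a) _ _
        (fun j => by rw [Category.assoc, hf, Category.assoc])
        (fun j => by rw [Category.assoc, hf, ← Category.assoc, ← pullback.condition])
    have hl : ∀ j, l ≫ c.π.app j = s.π.app j := fun j =>
      𝒰.hom_ext _ _ fun i => by rw [← Category.assoc, Scheme.Cover.ι_glueMorphisms, hf]
    exact ⟨l, hl, fun l' hl' => hext (𝟙 _) l' l (by simpa using hl') (by simpa using hl)⟩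
  exact ⟨IsLimit.mk (fun s => (key s).choose) (fun s => (key s).choose_spec.1)
    (fun s m hm => (key s).choose_spec.2 m hm)⟩

end Groth.Agent.TTApprox.Rel
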