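import Groth.Agent.TTApprox.Chart
import Groth.Agent.TTApprox.RelLim

/-!
# Charts from subalgebras of pairs of compatible functions
-/

set_option autoImplicit false
set_option linter.style.haveILetI false
set_option backward.isDefEq.respectTransparency false
set_option backward.isDefEq.respectTransparency.types false

universe u

open CategoryTheory CategoryTheory.Limits AlgebraicGeometry TopologicalSpace Opposite

attribute [-instance] CategoryTheory.catToReflQuiver

noncomputable section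

namespace Groth.Agent.TTApprox.Rel

variable {T W O : Scheme.{u}} (π : O ⟶ T) (b : O ⟶ W)

/-- Pairs of functions agreeing on `O`. -/
def pairAlg : Subalgebra ℤ (Γ(T, ⊤) × Γ(W, ⊤)) where
  carrier := {x | π.appTop.hom x.1 = b.appTop.hom x.2}
  mul_mem' := fun {x y} hx hy => by
    show π.appTop.hom (x.1 * y.1) = b.appTop.hom (x.2 * y.2)
    rw [map_mul, map_mul, hx, hy]
  add_mem' := fun {x y} hx hy => by
    show π.appTop.hom (x.1 + y.1) = b.appTop.hom (x.2 + y.2)
    rw [map_add, map_add, hx, hy]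
  algebraMap_mem' := fun r => by
    show π.appTop.hom (algebraMap ℤ (Γ(T, ⊤) × Γ(W, ⊤)) r).1 = b.appTop.hom (algebraMap ℤ (Γ(T, ⊤) × Γ(W, ⊤)) r).2
    simp

variable {σ : Type u} (f : σ → Γ(W, ⊤)) (c : σ → Γ(T, ⊤))

/-- A subalgebra of compatible pairs large enough to give a chart containing `T`. -/
structure IsGood (A : Subalgebra ℤ (Γ(T, ⊤) × Γ(W, ⊤))) : Prop where
  le : A ≤ pairAlg π b
  mem : ∀ s, (c s, f s) ∈ A
  surj : ∀ s (z : Γ(T, T.basicOpen (c s))), ∃ n : ℕ, ∃ a ∈ A, resTo (c s) a.1 = z * resTo (c s) (c s) ^ n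

theorem IsGood.mono {A A' : Subalgebra ℤ (Γ(T, ⊤) × Γ(W, ⊤))} (h : IsGood π b f c A) (hA : A ≤ A')
    (hle : A' ≤ pairAlg π b) : IsGood π b f c A' :=
  ⟨hle, fun s => hA (h.mem s), fun s z => by
    obtain ⟨n, a, ha, e⟩ := h.surj s z
    exact ⟨n, a, hA ha, e⟩⟩

variable (A : Subalgebra ℤ (Γ(T, ⊤) × Γ(W, ⊤)))

/-- The first projection of a subalgebra of pairs. -/
def pr₁ : CommRingCat.of A ⟶ Γ(T, ⊤) :=
  CommRingCat.ofHom ((RingHom.fst Γ(T, ⊤) Γ(W, ⊤)).comp A.val.toRingHom)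

/-- The second projection of a subalgebra of pairs. -/
def pr₂ : CommRingCat.of A ⟶ Γ(W, ⊤) :=
  CommRingCat.ofHom ((RingHom.snd Γ(T, ⊤) Γ(W, ⊤)).comp A.val.toRingHom)

/-- The chart. -/
def chartE : T ⟶ Spec (CommRingCat.of A) := T.toSpecΓ ≫ Spec.map (pr₁ A)

/-- The map of `W` to the chart. -/
def chartW : W ⟶ Spec (CommRingCat.of A) := W.toSpecΓ ≫ Spec.map (pr₂ A)

theorem chart_sq (hA : A ≤ pairAlg π b) : π ≫ chartE A = b ≫ chartW A := by
  show π ≫ T.toSpecΓ ≫ Spec.map (pr₁ A) = b ≫ W.toSpecΓ ≫ Spec.map (pr₂ A)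
  rw [Scheme.toSpecΓ_naturality_assoc, Scheme.toSpecΓ_naturality_assoc, ← Spec.map_comp,
    ← Spec.map_comp]
  congr 2
  ext x
  exact hA x.2

variable [IsAffine W] [CompactSpace O] [QuasiSeparatedSpace O] [CompactSpace T] [QuasiSeparatedSpace T]
  [IsOpenImmersion b] [Finite σ] (hcf : ∀ s, π.appTop (c s) = b.appTop (f s))
  (hf : ⨆ s, W.basicOpen (f s) = b.opensRange)
  (hc : ⨆ s, T.basicOpen (c s) = ⊤) (haff : ∀ s, IsAffineOpen (T.basicOpen (c s)))

set_option maxHeartbeats 1000000 in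
include hcf hf haff in
omit [IsAffine W] in
/-- Enough pairs exist, when `T` is of finite type over the integers. -/
theorem exists_fg_good [IsAffine W] (hT : LocallyOfFiniteType (IsTerminal.from specULiftZIsTerminal T)) :
    ∃ A : Subalgebra ℤ (Γ(T, ⊤) × Γ(W, ⊤)), A.FG ∧ IsGood π b f c A := by
  classical
  have hloc := fun s => loc_facts b (f s) (le_of_le_of_eq (le_iSup (fun s => W.basicOpen (f s)) s) hf)
  have hfin : ∀ s, ∃ G : Finset Γ(T, T.basicOpen (c s)),
      Subring.closure (G : Set Γ(T, T.basicOpen (c s))) = ⊤ := by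
    intro s
    let τ := IsTerminal.from specULiftZIsTerminal T
    have hft : (τ.appLE ⊤ (T.basicOpen (c s)) le_top).hom.FiniteType :=
      HasRingHomProperty.appLE @LocallyOfFiniteType τ hT
        ⟨⊤, isAffineOpen_top _⟩ ⟨_, haff s⟩ le_top
    let R := (τ.appLE ⊤ (T.basicOpen (c s)) le_top).hom
    letI := R.toAlgebra
    obtain ⟨G, hG⟩ : (⊤ : Subalgebra Γ(Spec (CommRingCat.of (ULift.{u} ℤ)), ⊤) Γ(T, T.basicOpen (c s))).FG :=
      Algebra.FiniteType.out (self := hft)
    refine ⟨G, eq_top_iff.2 fun x _ => ?_⟩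
    have hx : x ∈ Algebra.adjoin Γ(Spec (CommRingCat.of (ULift.{u} ℤ)), ⊤) (G : Set Γ(T, T.basicOpen (c s))) :=
      hG ▸ trivial
    induction hx using Algebra.adjoin_induction with
    | mem y hy => exact Subring.subset_closure hy
    | algebraMap r =>
      obtain ⟨m, rfl⟩ := (Scheme.ΓSpecIso (CommRingCat.of (ULift.{u} ℤ))).commRingCatIsoToRingEquiv.symm.surjective r
      show R ((Scheme.ΓSpecIso (CommRingCat.of (ULift.{u} ℤ))).inv.hom m) ∈ _
      have h1 : (R.comp (Scheme.ΓSpecIso (CommRingCat.of (ULift.{u} ℤ))).inv.hom).comp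
          ULift.ringEquiv.symm.toRingHom = Int.castRingHom _ := RingHom.ext_int _ _
      have h2 := congrArg (fun φ : ℤ →+* _ => φ m.down) h1
      exact h2 ▸ intCast_mem _ _
    | add _ _ _ _ h₁ h₂ => exact add_mem (h₁ trivial) (h₂ trivial)
    | mul _ _ _ _ h₁ h₂ => exact mul_mem (h₁ trivial) (h₂ trivial)
  choose G hG using hfin
  have hlift : ∀ s (z : Γ(T, T.basicOpen (c s))), ∃ (n : ℕ) (p : Γ(T, ⊤) × Γ(W, ⊤)),
      p ∈ pairAlg π b ∧ resTo (c s) p.1 = z * resTo (c s) (c s) ^ n := by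
    intro s z
    obtain ⟨n₀, t, ht⟩ := resTo_surj (c s) z
    obtain ⟨n, a, ha⟩ := (hloc s).1 (π.appTop t)
    refine ⟨n + n₀, (c s ^ n * t, a), ?_, ?_⟩
    · show π.appTop.hom (c s ^ n * t) = b.appTop.hom a
      rw [map_mul, map_pow, hcf, ha]
    · show resTo (c s) (c s ^ n * t) = _
      rw [map_mul, map_pow, ht, pow_add]
      ring
  choose N p hpP hp using hlift
  let gens : Set (Γ(T, ⊤) × Γ(W, ⊤)) :=
    Set.range (fun s => (c s, f s)) ∪ ⋃ s, p s '' (G s : Set _)
  have hgens : gens.Finite :=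
    (Set.finite_range _).union (Set.finite_iUnion fun s => (G s).finite_toSet.image _)
  let A := Algebra.adjoin ℤ gens
  have hct : ∀ s, (c s, f s) ∈ A := fun s => Algebra.subset_adjoin (Or.inl ⟨s, rfl⟩)
  refine ⟨A, ⟨hgens.toFinset, by rw [Set.Finite.coe_toFinset]⟩, Algebra.adjoin_le ?_, hct, fun s z => ?_⟩
  · rintro _ (⟨s, rfl⟩ | h)
    · exact hcf s
    · obtain ⟨s, z, -, rfl⟩ := Set.mem_iUnion.1 h
      exact hpP s z
  · have hz : z ∈ Subring.closure (G s : Set Γ(T, T.basicOpen (c s))) := (hG s).symm ▸ trivial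
    induction hz using Subring.closure_induction with
    | mem z hz => exact ⟨N s z, p s z, Algebra.subset_adjoin (Or.inr (Set.mem_iUnion.2 ⟨s, z, hz, rfl⟩)), hp s z⟩
    | zero => exact ⟨0, 0, zero_mem _, by simp⟩
    | one => exact ⟨0, 1, one_mem _, by simp⟩
    | add x y _ _ hx hy =>
      obtain ⟨n, a, ha, e⟩ := hx
      obtain ⟨m, a', ha', e'⟩ := hy
      refine ⟨n + m, a * (c s, f s) ^ m + a' * (c s, f s) ^ n,
        add_mem (mul_mem ha (pow_mem (hct s) m)) (mul_mem ha' (pow_mem (hct s) n)), ?_⟩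
      show resTo (c s) (a.1 * c s ^ m + a'.1 * c s ^ n) = _
      rw [map_add, map_mul, map_mul, e, e', map_pow, map_pow, pow_add]
      ring
    | neg x _ hx =>
      obtain ⟨n, a, ha, e⟩ := hx
      refine ⟨n, -a, neg_mem ha, ?_⟩
      show resTo (c s) (-a.1) = _
      rw [map_neg, e, neg_mul]
    | mul x y _ _ hx hy =>
      obtain ⟨n, a, ha, e⟩ := hx
      obtain ⟨m, a', ha', e'⟩ := hy
      refine ⟨n + m, a * a', mul_mem ha ha', ?_⟩
      show resTo (c s) (a.1 * a'.1) = _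
      rw [map_mul, e, e', pow_add]
      ring

set_option maxHeartbeats 1000000 in
include hcf hf hc haff in
/-- A good subalgebra gives a chart containing `T` as an open, with inverse image `O` in `W`. -/
theorem chart_spec (hA : IsGood π b f c A) :
    IsOpenImmersion (chartE A) ∧
      Set.range (chartE A) = ⋃ s, (PrimeSpectrum.basicOpen (⟨(c s, f s), hA.mem s⟩ : A) : Set (PrimeSpectrum A)) ∧
      chartW A ⁻¹' Set.range (chartE A) = Set.range b := by
  classical
  have hloc := fun s => loc_facts b (f s) (le_of_le_of_eq (le_iSup (fun s => W.basicOpen (f s)) s) hf)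
  let pr₁ : CommRingCat.of A ⟶ Γ(T, ⊤) := Rel.pr₁ A
  let pr₂ : CommRingCat.of A ⟶ Γ(W, ⊤) := Rel.pr₂ A
  let W' : Scheme.{u} := Spec (CommRingCat.of A)
  let e : T ⟶ W' := T.toSpecΓ ≫ Spec.map pr₁
  let w : W ⟶ W' := W.toSpecΓ ≫ Spec.map pr₂
  have hmem : ∀ x : A, π.appTop.hom x.1.1 = b.appTop.hom x.1.2 := fun x => hA.le x.2
  let x : σ → A := fun s => ⟨(c s, f s), hA.mem s⟩
  let Vs : σ → W'.Opens := fun s => PrimeSpectrum.basicOpen (x s)
  have hpre : ∀ s, e ⁻¹ᵁ Vs s = T.basicOpen (c s) := fun s => by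
    show T.toSpecΓ ⁻¹ᵁ (Spec.map pr₁ ⁻¹ᵁ PrimeSpectrum.basicOpen (x s)) = _
    rw [SpecMap_preimage_basicOpen]
    exact Scheme.toSpecΓ_preimage_basicOpen T _
  have hprew : ∀ s, w ⁻¹ᵁ Vs s = W.basicOpen (f s) := fun s => by
    show W.toSpecΓ ⁻¹ᵁ (Spec.map pr₂ ⁻¹ᵁ PrimeSpectrum.basicOpen (x s)) = _
    rw [SpecMap_preimage_basicOpen]
    exact Scheme.toSpecΓ_preimage_basicOpen W _
  have hVaff : ∀ s, IsAffineOpen (Vs s) := fun s =>
    (IsAffineOpen.Spec_basicOpen (R := CommRingCat.of A) (x s))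
  -- the chart is an isomorphism over each basic open
  have hiso : ∀ s, IsIso (e ∣_ Vs s) := by
    intro s
    haveI : IsAffine (Vs s).toScheme := hVaff s
    haveI : IsAffine (e ⁻¹ᵁ Vs s).toScheme := (hpre s).symm ▸ haff s
    letI : Algebra A Γ(W', Vs s) := ((Scheme.ΓSpecIso (CommRingCat.of A)).inv ≫
      W'.presheaf.map (homOfLE (le_top : Vs s ≤ ⊤)).op).hom.toAlgebra
    let ψ := e.appLE (Vs s) (T.basicOpen (c s)) (hpre s).ge
    have hψ : ∀ a : A, ψ.hom (algebraMap A Γ(W', Vs s) a) = resTo (c s) a.1.1 := by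
      intro a
      have h1 : e.appTop ((Scheme.ΓSpecIso (CommRingCat.of A)).inv a) = a.1.1 := by
        have h2 : e.appTop = (Scheme.ΓSpecIso (CommRingCat.of A)).hom ≫ pr₁ := by
          show (Spec.map pr₁).appTop ≫ T.toSpecΓ.appTop = _
          rw [Scheme.toSpecΓ_appTop, Scheme.ΓSpecIso_naturality]
        rw [h2]
        exact congrArg pr₁ (Iso.inv_hom_id_apply (Scheme.ΓSpecIso (CommRingCat.of A)) a)
      rw [← h1]
      show (W'.presheaf.map (homOfLE (le_top : Vs s ≤ ⊤)).op ≫ e.appLE _ _ (hpre s).ge)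
          ((Scheme.ΓSpecIso (CommRingCat.of A)).inv a) =
        (e.appTop ≫ T.presheaf.map (homOfLE le_top).op) ((Scheme.ΓSpecIso (CommRingCat.of A)).inv a)
      rw [Scheme.Hom.map_appLE]
      rfl
    haveI : IsLocalization.Away (x s) Γ(W', Vs s) := by
      convert! StructureSheaf.IsLocalization.to_basicOpen (CommRingCat.of A) (x s) using 1
      apply Algebra.algebra_ext
      intro _
      rfl
    have hu : IsUnit (algebraMap A Γ(W', Vs s) (x s)) :=
      IsLocalization.map_units Γ(W', Vs s) ⟨x s, Submonoid.mem_powers _⟩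
    have hbij : Function.Bijective ψ.hom := by
      refine ⟨(injective_iff_map_eq_zero ψ.hom).2 fun z hz => ?_, RingHom.range_eq_top.1 ?_⟩
      · obtain ⟨⟨a, ⟨_, n, rfl⟩⟩, ha⟩ := IsLocalization.surj (Submonoid.powers (x s)) z
        have h0 : resTo (c s) a.1.1 = 0 := by rw [← hψ, ← ha, map_mul, hz, zero_mul]
        obtain ⟨m, hm⟩ := resTo_ker _ _ h0
        have h1 : b.appTop.hom (f s ^ m * a.1.2) = 0 := by
          rw [map_mul, map_pow, ← hcf, ← hmem, ← map_pow, ← map_mul, hm, map_zero]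
        obtain ⟨m', hm'⟩ := (hloc s).2 _ h1
        have h2 : x s ^ (m' + m) * a = 0 := Subtype.ext (Prod.ext
          (show c s ^ (m' + m) * a.1.1 = 0 by rw [pow_add, mul_assoc, hm, mul_zero])
          (show f s ^ (m' + m) * a.1.2 = 0 by rw [pow_add, mul_assoc, hm']))
        have h3 : algebraMap A Γ(W', Vs s) a = 0 :=
          (IsLocalization.map_eq_zero_iff (Submonoid.powers (x s)) _ _).2 ⟨⟨_, m' + m, rfl⟩, h2⟩
        rw [h3] at ha
        exact (IsLocalization.map_units Γ(W', Vs s) (⟨_, n, rfl⟩ : Submonoid.powers (x s))).mul_left_eq_zero.1 ha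
      · rw [eq_top_iff]
        intro z _
        obtain ⟨n, a, ha, hna⟩ := hA.surj s z
        refine ⟨algebraMap A _ ⟨a, ha⟩ * ↑(hu.pow n).unit⁻¹, ?_⟩
        have h1 : ψ.hom (algebraMap A _ (x s) ^ n) = resTo (c s) (c s) ^ n := by
          rw [map_pow, hψ]
        have h2 : IsUnit (resTo (c s) (c s) ^ n) := by rw [← h1]; exact (hu.pow _).map ψ.hom
        refine h2.mul_left_inj.1 ?_
        rw [map_mul, ← h1, mul_assoc, ← map_mul, IsUnit.val_inv_mul, map_one, mul_one, hψ, h1, hna]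
    haveI : IsIso ψ := (ConcreteCategory.isIso_iff_bijective ψ).2 hbij
    haveI : IsIso (e.app (Vs s)) := by
      have : e.app (Vs s) = ψ ≫ T.presheaf.map (homOfLE (hpre s).le).op := by
        rw [Scheme.Hom.appLE_map, Scheme.Hom.app_eq_appLE]
      rw [this]
      haveI : IsIso (homOfLE (hpre s).le) := ⟨homOfLE (hpre s).ge, rfl, rfl⟩
      infer_instance
    haveI : IsIso (e.app ((Vs s).ι ''ᵁ ⊤)) := by
      rw [Scheme.Opens.ι_image_top]
      infer_instance
    haveI : IsIso (e ∣_ Vs s).appTop := by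
      rw [morphismRestrict_appTop]
      infer_instance
    exact isIso_of_isIso_appTop _
  let V : W'.Opens := ⨆ s, Vs s
  have hrangeV : ∀ t, e t ∈ V := fun t => by
    obtain ⟨s, hs⟩ := Opens.mem_iSup.1 (hc.ge (Set.mem_univ t) : t ∈ ⨆ s, T.basicOpen (c s))
    exact Opens.mem_iSup.2 ⟨s, (hpre s).ge hs⟩
  have hVrange : ∀ v ∈ V, v ∈ Set.range e := fun v hv => by
    obtain ⟨s, hs⟩ := Opens.mem_iSup.1 hv
    haveI := hiso s
    obtain ⟨t, ht⟩ := (e ∣_ Vs s).surjective ⟨v, hs⟩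
    refine ⟨t.1, ?_⟩
    have h := congrArg Subtype.val ht
    rwa [morphismRestrict_base] at h
  haveI : IsOpenImmersion e := by
    let e' : T ⟶ V.toScheme := IsOpenImmersion.lift V.ι e (by
      rw [Scheme.Opens.range_ι]; rintro _ ⟨t, rfl⟩; exact hrangeV t)
    have he' : e' ≫ V.ι = e := IsOpenImmersion.lift_fac _ _ _
    suffices IsOpenImmersion e' by rw [← he']; infer_instance
    refine IsZariskiLocalAtTarget.of_iSup_eq_top (P := @IsOpenImmersion) (fun s => V.ι ⁻¹ᵁ Vs s) ?_ fun s => ?_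
    · rw [← Scheme.Hom.preimage_iSup]
      exact Opens.ext (Set.eq_univ_of_forall fun v => v.2)
    · haveI := hiso s
      have h1 : IsOpenImmersion ((e' ∣_ V.ι ⁻¹ᵁ Vs s) ≫ (V.ι ∣_ Vs s)) := by
        rw [← morphismRestrict_comp]
        have hg : ∀ g : T ⟶ W', g = e → IsOpenImmersion (g ∣_ Vs s) := by
          rintro g rfl
          infer_instance
        exact hg _ he'
      exact IsOpenImmersion.of_comp _ (V.ι ∣_ Vs s)
  have hV : Set.range e = (V : Set W') := Set.Subset.antisymm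
    (by rintro _ ⟨t, rfl⟩; exact hrangeV t) hVrange
  refine ⟨‹IsOpenImmersion e›, ?_, ?_⟩
  · exact hV.trans (Opens.coe_iSup Vs)
  · have hb : w ⁻¹ᵁ V = b.opensRange := by
      rw [Scheme.Hom.preimage_iSup, ← hf]
      exact iSup_congr hprew
    show w ⁻¹' Set.range e = _
    rw [hV]
    exact congrArg (fun U : W.Opens => (U : Set W)) hb

end Groth.Agent.TTApprox.Rel
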