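import Groth.Agent.TTApprox.Affine
import Groth.Agent.TTApprox.Chart

/-!
# Gluing affine morphisms into schemes of finite presentation along a quasi-compact open
-/

set_option autoImplicit false
set_option linter.style.haveILetI false
set_option backward.isDefEq.respectTransparency false
set_option backward.isDefEq.respectTransparency.types false

universe u

open CategoryTheory CategoryTheory.Limits AlgebraicGeometry TopologicalSpace Opposite

attribute [-instance] CategoryTheory.catToReflQuiver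

noncomputable section

namespace Groth.Agent.TTApprox

open Groth.Agent

/-- `f` factors as an affine morphism into a quasi-compact quasi-separated scheme locally of finite
presentation over the base. -/
def HasAff {X S : Scheme.{u}} (f : X ⟶ S) : Prop :=
  ∃ (P : Scheme.{u}) (p : P ⟶ S) (k : X ⟶ P), CompactSpace P ∧ QuasiSeparatedSpace P ∧
    LocallyOfFinitePresentation p ∧ IsAffineHom k ∧ k ≫ p = f

theorem HasAff.of_iso {X X' S : Scheme.{u}} {f : X ⟶ S} (h : HasAff f) (e : X' ≅ X) :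
    HasAff (e.hom ≫ f) := by
  obtain ⟨P, p, k, hc, hq, hp, hk, rfl⟩ := h
  exact ⟨P, p, e.hom ≫ k, hc, hq, hp, inferInstance, Category.assoc _ _ _⟩

/-- The overlap data: a stage of a limit containing an open cut out by finitely many functions with affine
non-vanishing loci, compatible with given functions on the limit. -/
theorem exists_stage_basic {J : Type u} [SmallCategory J] [IsCofiltered J] {D : J ⥤ Scheme.{u}}
    {c : Cone D} (hc : IsLimit c) [∀ {i j : J} (f : i ⟶ j), IsAffineHom (D.map f)]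
    [∀ i, CompactSpace (D.obj i)] [∀ i, QuasiSeparatedSpace (D.obj i)]
    {σ : Type u} [Finite σ] (g : σ → Γ(c.pt, ⊤)) (hg : ⨆ s, c.pt.basicOpen (g s) = ⊤)
    (haff : ∀ s, IsAffineOpen (c.pt.basicOpen (g s))) :
    ∃ (j : J) (t : σ → Γ(D.obj j, ⊤)), (∀ s, (c.π.app j).appTop (t s) = g s) ∧
      ⨆ s, (D.obj j).basicOpen (t s) = ⊤ ∧ ∀ s, IsAffineOpen ((D.obj j).basicOpen (t s)) := by
  classical
  cases nonempty_fintype σ
  choose j₁ t₁ ht₁ using fun s => exists_appTop_π_eq_of_isLimit D c hc (g s)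
  obtain ⟨j₂, h₂⟩ := IsCofiltered.inf_objs_exists (Finset.univ.image j₁)
  replace h₂ : ∀ s, j₂ ⟶ j₁ s := fun s => (h₂ (by simp)).some
  let t₂ : σ → Γ(D.obj j₂, ⊤) := fun s => (D.map (h₂ s)).appTop (t₁ s)
  have ht₂ : ∀ s, (c.π.app j₂).appTop (t₂ s) = g s := fun s => by
    rw [ht₁ s, ← c.w (h₂ s), Scheme.Hom.comp_appTop]
    rfl
  have hpre : ∀ s, c.π.app j₂ ⁻¹ᵁ (D.obj j₂).basicOpen (t₂ s) = c.pt.basicOpen (g s) := fun s => by
    rw [Scheme.preimage_basicOpen_top, ht₂]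
    rfl
  -- affineness of each basic open at some stage
  have haff' : ∀ s, ∃ (j : J) (h : j ⟶ j₂),
      IsAffineOpen (D.map h ⁻¹ᵁ (D.obj j₂).basicOpen (t₂ s)) := by
    intro s
    obtain ⟨i, V, hV, hVg⟩ := exists_isAffineOpen_preimage_eq D c hc _ (haff s)
    obtain ⟨k, a, b, -⟩ := IsCofilteredOrEmpty.cone_objs i j₂
    obtain ⟨l, q, hl⟩ := exists_map_preimage_eq_map_preimage D c hc
      (i := k) (U := D.map a ⁻¹ᵁ V) (V := D.map b ⁻¹ᵁ (D.obj j₂).basicOpen (t₂ s))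
      (QuasiCompact.isCompact_preimage (f := D.map a) _ V.2 hV.isCompact)
      (QuasiCompact.isCompact_preimage (f := D.map b) _ ((D.obj j₂).basicOpen (t₂ s)).2
        (isCompact_basicOpen _ isCompact_univ _))
      (by rw [← Scheme.Hom.comp_preimage, ← Scheme.Hom.comp_preimage, c.w, c.w, hVg, hpre])
    refine ⟨l, q ≫ b, ?_⟩
    rw [D.map_comp, Scheme.Hom.comp_preimage, ← hl]
    exact (hV.preimage _).preimage _
  choose j₃ h₃ haff₃ using haff'
  obtain ⟨j₄, fk, hk⟩ := IsCofiltered.inf_exists (insert j₂ (Finset.univ.image j₃))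
    (Finset.univ.image fun s : σ => (⟨j₃ s, j₂, by simp, by simp, h₃ s⟩ :
      Σ' (X Y : J) (_ : X ∈ insert j₂ (Finset.univ.image j₃)) (_ : Y ∈ insert j₂ (Finset.univ.image j₃)), X ⟶ Y))
  let q : j₄ ⟶ j₂ := fk (by simp)
  have haff₄ : ∀ s, IsAffineOpen (D.map q ⁻¹ᵁ (D.obj j₂).basicOpen (t₂ s)) := fun s => by
    have hq : fk (show j₃ s ∈ insert j₂ (Finset.univ.image j₃) by simp) ≫ h₃ s = q :=
      hk _ _ (Finset.mem_image.2 ⟨s, Finset.mem_univ s, rfl⟩)
    rw [← hq, D.map_comp, Scheme.Hom.comp_preimage]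
    exact (haff₃ s).preimage _
  -- the cover at some stage
  obtain ⟨j₅, r, hr⟩ := exists_map_eq_top D c hc (i := j₄)
    (⨆ s, D.map q ⁻¹ᵁ (D.obj j₂).basicOpen (t₂ s)) (by
      rw [Scheme.Hom.preimage_iSup, ← hg]
      exact iSup_congr fun s => by rw [← Scheme.Hom.comp_preimage, c.w, hpre])
  refine ⟨j₅, fun s => (D.map (r ≫ q)).appTop (t₂ s), fun s => ?_, ?_, fun s => ?_⟩
  · rw [← ht₂ s, ← c.w (r ≫ q), Scheme.Hom.comp_appTop]
    rfl
  · refine (iSup_congr fun s => ?_).trans ((Scheme.Hom.preimage_iSup _ _).symm.trans hr)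
    rw [← Scheme.preimage_basicOpen_top, D.map_comp, Scheme.Hom.comp_preimage]
  · rw [← Scheme.preimage_basicOpen_top, D.map_comp, Scheme.Hom.comp_preimage]
    exact (haff₄ s).preimage _

set_option maxHeartbeats 1000000 in
/-- An affine factorisation extends over one more affine open. -/
theorem hasAff_of_cover {X S : Scheme.{u}} [QuasiSeparatedSpace X] [QuasiSeparatedSpace S] (f : X ⟶ S)
    (U W : X.Opens) (hcov : ∀ x, x ∈ U ∨ x ∈ W) (hUc : IsCompact (U : Set X)) (hW : IsAffineOpen W)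
    (A : S.Opens) (hA : IsAffineOpen A) (hle : W ≤ f ⁻¹ᵁ A) (hU : HasAff (U.ι ≫ f)) : HasAff f := by
  classical
  obtain ⟨P, p, k, hPc, hPq, hp, hk, hkp⟩ := hU
  haveI : IsAffine (W : Scheme.{u}) := hW
  haveI : IsAffine (A : Scheme.{u}) := hA
  haveI : CompactSpace (U : Scheme.{u}) := isCompact_iff_compactSpace.mp hUc
  haveI : QuasiSeparatedSpace (U : Scheme.{u}) := U.ι.isOpenEmbedding.quasiSeparatedSpace
  obtain ⟨I, _, _, _, D, c, hc, hD, ⟨e⟩⟩ := exists_affine_fp_limit k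
  haveI : IsCofiltered Iᵒᵖ := inferInstance
  haveI : CategoryTheory.IsConnected Iᵒᵖ := IsCofiltered.isConnected _
  let Xs : Iᵒᵖ ⥤ Scheme.{u} := D ⋙ Over.forget P
  let cX : Cone Xs := (Over.forget P).mapCone c
  have hcX : IsLimit cX := isLimitOfPreserves (Over.forget P) hc
  haveI hXs : ∀ {i j : Iᵒᵖ} (h : i ⟶ j), IsAffineHom (Xs.map h) := fun {i j} h => by
    haveI := (hD i).1
    haveI := (hD j).1
    haveI : IsAffineHom ((D.map h).left ≫ (D.obj j).hom) := by rw [Over.w]; infer_instance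
    exact IsAffineHom.of_comp (D.map h).left (D.obj j).hom
  haveI : ∀ i, CompactSpace (Xs.obj i) := fun i => by
    haveI := (hD i).1
    exact QuasiCompact.compactSpace_of_compactSpace (D.obj i).hom
  haveI : ∀ i, QuasiSeparatedSpace (Xs.obj i) := fun i => by
    haveI := (hD i).1
    exact quasiSeparatedSpace_of_quasiSeparated (D.obj i).hom
  let σS : ∀ i, Xs.obj i ⟶ S := fun i => (D.obj i).hom ≫ p
  haveI : ∀ i, LocallyOfFinitePresentation (σS i) := fun i => by
    haveI := (hD i).2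
    infer_instance
  haveI : ∀ i, QuasiCompact (σS i) := fun i => quasiCompact_of_compactSpace _
  have hσS : ∀ {i j : Iᵒᵖ} (h : i ⟶ j), Xs.map h ≫ σS j = σS i := fun h =>
    (Category.assoc _ _ _).symm.trans (congrArg (· ≫ p) (Over.w (D.map h)))
  let eU : cX.pt ≅ (U : Scheme.{u}) := (Over.forget P).mapIso e
  let uU : cX.pt ⟶ X := eU.hom ≫ U.ι
  have huU : ∀ i, cX.π.app i ≫ σS i = uU ≫ f := fun i => by
    show (c.π.app i).left ≫ (D.obj i).hom ≫ p = (eU.hom ≫ U.ι) ≫ f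
    rw [Category.assoc, ← hkp]
    have h1 : (c.π.app i).left ≫ (D.obj i).hom = c.pt.hom := Over.w _
    have h2 : eU.hom ≫ k = c.pt.hom := Over.w e.hom
    exact (Category.assoc _ _ _).symm.trans
      ((congrArg (· ≫ p) (h1.trans h2.symm)).trans (Category.assoc _ _ _))
  have huUr : Set.range uU = (U : Set X) := by
    rw [Scheme.Hom.comp_base, TopCat.coe_comp, Set.range_comp]
    rw [Set.range_eq_univ.2 eU.hom.surjective, Set.image_univ, Scheme.Opens.range_ι]
  -- the overlap at a stage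
  have hUW : IsCompact ((U : Set X) ∩ W) :=
    QuasiSeparatedSpace.inter_isCompact _ _ U.2 hUc W.2 hW.isCompact
  have hO'c : IsCompact ((uU ⁻¹ᵁ W : cX.pt.Opens) : Set cX.pt) := by
    rw [uU.isOpenEmbedding.isInducing.isCompact_iff]
    convert hUW using 1
    show uU '' (uU ⁻¹' (W : Set X)) = _
    rw [Set.image_preimage_eq_inter_range, huUr, Set.inter_comm]
  obtain ⟨i₀, O₀, hO₀c, hO₀⟩ := exists_preimage_eq Xs cX hcX _ hO'c
  let O₁ : (Xs.obj i₀).Opens := O₀ ⊓ σS i₀ ⁻¹ᵁ A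
  have hO₁c : IsCompact (O₁ : Set (Xs.obj i₀)) :=
    QuasiSeparatedSpace.inter_isCompact _ _ O₀.2 hO₀c (σS i₀ ⁻¹ᵁ A).2
      ((σS i₀).isCompact_preimage hA.isCompact)
  have hO₁ : cX.π.app i₀ ⁻¹ᵁ O₁ = uU ⁻¹ᵁ W := by
    rw [Scheme.Hom.preimage_inf, hO₀]
    refine inf_eq_left.2 fun z hz => ?_
    show σS i₀ (cX.π.app i₀ z) ∈ A
    rw [← Scheme.Hom.comp_apply, huU, Scheme.Hom.comp_apply]
    exact hle hz
  let Ds := opensDiagram Xs i₀ O₁
  let cs := opensCone Xs cX i₀ O₁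
  have hcs : IsLimit cs := isLimitOpensCone Xs cX hcX i₀ O₁
  haveI : ∀ j, CompactSpace (Ds.obj j) := fun j =>
    isCompact_iff_compactSpace.mp ((Xs.map j.hom).isCompact_preimage hO₁c)
  haveI : ∀ j, QuasiSeparatedSpace (Ds.obj j) := fun j =>
    (Scheme.Opens.ι _).isOpenEmbedding.quasiSeparatedSpace
  let OC : cX.pt.Opens := cX.π.app i₀ ⁻¹ᵁ O₁
  haveI : CompactSpace (OC : Scheme.{u}) := isCompact_iff_compactSpace.mp (by
    show IsCompact ((cX.π.app i₀ ⁻¹ᵁ O₁ : cX.pt.Opens) : Set cX.pt)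
    rw [hO₁]; exact hO'c)
  haveI : QuasiSeparatedSpace cX.pt := eU.hom.isOpenEmbedding.quasiSeparatedSpace
  haveI : QuasiSeparatedSpace (OC : Scheme.{u}) := OC.ι.isOpenEmbedding.quasiSeparatedSpace
  let b : (OC : Scheme.{u}) ⟶ W := IsOpenImmersion.lift W.ι (OC.ι ≫ uU) (by
    rw [Scheme.Opens.range_ι]
    rintro _ ⟨z, rfl⟩
    exact hO₁.le z.2)
  have hb : b ≫ W.ι = OC.ι ≫ uU := IsOpenImmersion.lift_fac _ _ _
  haveI : IsOpenImmersion b := by
    haveI : IsOpenImmersion (b ≫ W.ι) := by rw [hb]; infer_instance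
    exact IsOpenImmersion.of_comp b W.ι
  have hbr : Set.range b = W.ι ⁻¹' (U : Set X) := by
    ext x
    refine ⟨?_, fun hx => ?_⟩
    · rintro ⟨z, rfl⟩
      show W.ι (b z) ∈ (U : Set X)
      rw [← Scheme.Hom.comp_apply, hb, Scheme.Hom.comp_apply, ← huUr]
      exact ⟨_, rfl⟩
    · obtain ⟨z, hz⟩ := huUr.ge hx
      have hzO : z ∈ OC := hO₁.ge (show uU z ∈ W by rw [hz]; exact x.2)
      refine ⟨⟨z, hzO⟩, W.ι.isOpenEmbedding.injective ?_⟩
      rw [← Scheme.Hom.comp_apply, hb]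
      exact hz
  -- functions cutting out the overlap in the affine
  have hbasic : ∀ x : b.opensRange, ∃ r : Γ((W : Scheme.{u}), ⊤),
      (W : Scheme.{u}).basicOpen r ≤ b.opensRange ∧ x.1 ∈ (W : Scheme.{u}).basicOpen r := fun x =>
    (isAffineOpen_top (W : Scheme.{u})).exists_basicOpen_le x trivial
  choose r hr hxr using hbasic
  obtain ⟨F, hF⟩ := (show IsCompact (b.opensRange : Set (W : Scheme.{u})) from
      isCompact_range b.continuous).elim_finite_subcover
    (fun x : b.opensRange => (((W : Scheme.{u}).basicOpen (r x)) : Set (W : Scheme.{u})))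
    (fun x => ((W : Scheme.{u}).basicOpen (r x)).2) (fun x hx => Set.mem_iUnion.2 ⟨⟨x, hx⟩, hxr ⟨x, hx⟩⟩)
  let g : F → Γ((W : Scheme.{u}), ⊤) := fun s => r s.1
  have hg : ⨆ s, (W : Scheme.{u}).basicOpen (g s) = b.opensRange := le_antisymm (iSup_le fun s => hr s.1)
    fun x hx => by
      obtain ⟨y, hy, hxy⟩ := Set.mem_iUnion₂.1 (hF hx)
      exact Opens.mem_iSup.2 ⟨⟨y, hy⟩, hxy⟩
  obtain ⟨j, t, ht, htcov, htaff⟩ := exists_stage_basic hcs (fun s => b.appTop (g s)) (by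
      show ⨆ s, (OC : Scheme.{u}).basicOpen (b.appTop (g s)) = ⊤
      simp only [← Scheme.preimage_basicOpen_top, ← Scheme.Hom.preimage_iSup, hg]
      exact Opens.ext (Set.eq_univ_of_forall fun z => ⟨z, rfl⟩)) (fun s => by
      show IsAffineOpen ((OC : Scheme.{u}).basicOpen (b.appTop (g s)))
      rw [← Scheme.preimage_basicOpen_top]
      exact ((isAffineOpen_top _).basicOpen (g s)).preimage_of_isOpenImmersion b (hr s.1))
  -- the chart
  let T : (Xs.obj j.left).Opens := Xs.map j.hom ⁻¹ᵁ O₁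
  have hTA : T ≤ σS j.left ⁻¹ᵁ A := fun z hz => by
    show σS j.left z ∈ A
    rw [← hσS j.hom, Scheme.Hom.comp_apply]
    exact hz.2
  let τ : (T : Scheme.{u}) ⟶ A := IsOpenImmersion.lift A.ι (T.ι ≫ σS j.left) (by
    rw [Scheme.Opens.range_ι]; rintro _ ⟨z, rfl⟩; exact hTA z.2)
  have hτ : τ ≫ A.ι = T.ι ≫ σS j.left := IsOpenImmersion.lift_fac _ _ _
  haveI : LocallyOfFiniteType τ := by
    haveI : LocallyOfFiniteType (τ ≫ A.ι) := by rw [hτ]; infer_instance
    exact locallyOfFiniteType_of_comp τ A.ι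
  haveI : CompactSpace (T : Scheme.{u}) := inferInstanceAs (CompactSpace (Ds.obj j))
  haveI : QuasiSeparatedSpace (T : Scheme.{u}) := inferInstanceAs (QuasiSeparatedSpace (Ds.obj j))
  let ω : (W : Scheme.{u}) ⟶ A := f.resLE A W hle
  let π : (OC : Scheme.{u}) ⟶ (T : Scheme.{u}) := cs.π.app j
  have hπ : π ≫ T.ι = OC.ι ≫ cX.π.app j.left := Scheme.Hom.resLE_comp_ι _ _
  have hπτ : π ≫ τ = b ≫ ω := by
    rw [← cancel_mono A.ι, Category.assoc, hτ, reassoc_of% hπ, huU]
    exact (((Category.assoc _ _ _).trans (congrArg (b ≫ ·) (Scheme.Hom.resLE_comp_ι f hle))).trans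
      ((Category.assoc _ _ _).symm.trans ((congrArg (· ≫ f) hb).trans (Category.assoc _ _ _)))).symm
  obtain ⟨W', ω', eT, w, hW', hω', heT, hsq, hwω, heω, hwr⟩ :=
    exists_chart τ ω π b hπτ g t ht hg htcov htaff
  -- the gluing
  let zA : (T : Scheme.{u}) ⟶ Xs.obj j.left := T.ι
  let pA : Xs.obj j.left ⟶ S := σS j.left
  let pB : W' ⟶ S := ω' ≫ A.ι
  have hwP : zA ≫ pA = eT ≫ pB := by
    show T.ι ≫ σS j.left = eT ≫ ω' ≫ A.ι
    rw [reassoc_of% heω, hτ]
  let Q := pushout zA eT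
  let ιA : Xs.obj j.left ⟶ Q := pushout.inl zA eT
  let ιB : W' ⟶ Q := pushout.inr zA eT
  haveI : IsOpenImmersion ιA := inferInstanceAs (IsOpenImmersion (pushout.inl zA eT))
  haveI : IsOpenImmersion ιB := inferInstanceAs (IsOpenImmersion (pushout.inr zA eT))
  let q : Q ⟶ S := pushout.desc pA pB hwP
  have hqA : ιA ≫ q = pA := pushout.inl_desc _ _ _
  have hqB : ιB ≫ q = pB := pushout.inr_desc _ _ _
  haveI : LocallyOfFiniteType pA := inferInstance
  haveI : LocallyOfFiniteType pB := inferInstance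
  have hcovQ : ∀ x : Q, x ∈ Set.range ιA ∨ x ∈ Set.range ιB :=
    LocImmLib.pushout_jointly_surjective zA eT
  let cov : Q.OpenCover := Scheme.Cover.mkOfCovers Bool
    (fun t => Bool.rec (Xs.obj j.left) W' t)
    (fun t => Bool.rec (motive := fun t => Bool.rec (Xs.obj j.left) W' t ⟶ Q) ιA ιB t)
    (fun x => (hcovQ x).elim (fun ⟨z, hz⟩ => ⟨false, z, hz⟩) (fun ⟨z, hz⟩ => ⟨true, z, hz⟩))
    (fun t => by cases t <;> infer_instance)
  haveI hQc : CompactSpace Q := by
    constructor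
    have : (Set.univ : Set Q) = Set.range ιA ∪ Set.range ιB :=
      (Set.eq_univ_of_forall hcovQ).symm
    rw [this]
    exact (isCompact_range ιA.continuous).union (isCompact_range ιB.continuous)
  haveI hQq : QuasiSeparatedSpace Q := by
    refine Graft.quasiSeparatedSpace_of_two ιA ιB hcovQ ?_
    have e : Set.range ιA ∩ Set.range ιB = Set.range (zA ≫ ιA) := by
      refine Set.Subset.antisymm ?_ ?_
      · rintro _ ⟨⟨u, rfl⟩, ⟨v, hv⟩⟩
        obtain ⟨z, rfl, -⟩ := (LocImmLib.pushout_eq_iff zA eT).1 hv.symm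
        exact ⟨z, Scheme.Hom.comp_apply _ _ _⟩
      · rintro _ ⟨z, rfl⟩
        refine ⟨⟨zA z, (Scheme.Hom.comp_apply _ _ _).symm⟩, ⟨eT z, ?_⟩⟩
        rw [← Scheme.Hom.comp_apply]
        exact congrArg (fun m : (T : Scheme.{u}) ⟶ Q => m z) pushout.condition.symm
    rw [e]
    exact isCompact_range (zA ≫ ιA).continuous
  haveI : LocallyOfFiniteType q := by
    refine IsZariskiLocalAtSource.of_openCover (P := @LocallyOfFiniteType) cov fun t => ?_
    cases t
    · show LocallyOfFiniteType (ιA ≫ q)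
      rw [hqA]; infer_instance
    · show LocallyOfFiniteType (ιB ≫ q)
      rw [hqB]; infer_instance
  let kA : (U : Scheme.{u}) ⟶ Xs.obj j.left := eU.inv ≫ cX.π.app j.left
  haveI : IsAffineHom kA := by
    haveI := isAffineHom_π_app Xs cX hcX j.left
    infer_instance
  let o : ((U ⊓ W : X.Opens) : Scheme.{u}) ⟶ OC :=
    IsOpenImmersion.lift (OC.ι ≫ uU) (U ⊓ W).ι (by
      rw [Scheme.Opens.range_ι]
      rintro x ⟨hxU, hxW⟩
      obtain ⟨z, rfl⟩ := huUr.ge hxU
      exact ⟨⟨z, hO₁.ge hxW⟩, rfl⟩)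
  have ho : o ≫ OC.ι ≫ uU = (U ⊓ W).ι := IsOpenImmersion.lift_fac _ _ _
  have hoU : o ≫ OC.ι = X.homOfLE inf_le_left ≫ eU.inv := by
    rw [← cancel_mono eU.hom, ← cancel_mono U.ι, Category.assoc, Category.assoc, Category.assoc,
      Category.assoc, Iso.inv_hom_id_assoc, Scheme.homOfLE_ι]
    exact ho
  have hoW : o ≫ b = X.homOfLE inf_le_right := by
    rw [← cancel_mono W.ι, Category.assoc, hb, Scheme.homOfLE_ι]
    exact ho
  obtain ⟨kQ, hkU, hkW⟩ := ConsPropLib.exists_hom_of_cover U W hcov (kA ≫ ιA) (w ≫ ιB) (by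
    rw [← hoW, Category.assoc, Category.assoc, ← reassoc_of% hsq]
    refine Eq.trans ?_ (congrArg (fun m => o ≫ π ≫ m) pushout.condition)
    show X.homOfLE _ ≫ (eU.inv ≫ cX.π.app j.left) ≫ ιA = o ≫ π ≫ zA ≫ ιA
    rw [Category.assoc, ← Category.assoc (X.homOfLE _), ← hoU, Category.assoc]
    exact congrArg (o ≫ ·) (((Category.assoc _ _ _).symm.trans (congrArg (· ≫ ιA) hπ.symm)).trans (Category.assoc _ _ _)))
  have hkA : kQ ⁻¹ᵁ ιA.opensRange = U.ι.opensRange := by
    refine Opens.ext (Set.Subset.antisymm ?_ ?_)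
    · rintro x ⟨u, hu⟩
      rcases hcov x with hx | hx
      · exact ⟨⟨x, hx⟩, rfl⟩
      obtain ⟨v, rfl⟩ : x ∈ Set.range W.ι := by rw [Scheme.Opens.range_ι]; exact hx
      have h1 : ιA u = ιB (w v) := by
        refine hu.trans ?_
        rw [← Scheme.Hom.comp_apply, hkW, Scheme.Hom.comp_apply]
      obtain ⟨z, -, hz⟩ := (LocImmLib.pushout_eq_iff zA eT).1 h1
      have h3 : v ∈ Set.range b := hwr.le (show w v ∈ Set.range eT from ⟨z, hz⟩)
      rw [hbr] at h3
      show W.ι v ∈ Set.range U.ι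
      rw [Scheme.Opens.range_ι]
      exact h3
    · rintro _ ⟨u, rfl⟩
      exact ⟨kA u, by rw [← Scheme.Hom.comp_apply, ← hkU, Scheme.Hom.comp_apply]⟩
  have hkB : kQ ⁻¹ᵁ ιB.opensRange = W.ι.opensRange := by
    refine Opens.ext (Set.Subset.antisymm ?_ ?_)
    · rintro x ⟨v, hv⟩
      rcases hcov x with hx | hx
      swap
      · exact ⟨⟨x, hx⟩, rfl⟩
      obtain ⟨z, rfl⟩ : x ∈ Set.range uU := by rw [huUr]; exact hx
      have h0 : kQ (uU z) = ιA (cX.π.app j.left z) := by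
        rw [← Scheme.Hom.comp_apply, ← Scheme.Hom.comp_apply]
        refine congrArg (fun m : cX.pt ⟶ Q => m z) ?_
        show (eU.hom ≫ U.ι) ≫ kQ = _
        rw [Category.assoc, hkU]
        show eU.hom ≫ (eU.inv ≫ cX.π.app j.left) ≫ ιA = _
        rw [Category.assoc, Iso.hom_inv_id_assoc]
      obtain ⟨y, hy, -⟩ := (LocImmLib.pushout_eq_iff zA eT).1 ((hv.trans h0).symm)
      have h2 : cX.π.app j.left z ∈ Xs.map j.hom ⁻¹ᵁ O₁ := hy ▸ y.2
      have h3 : z ∈ cX.π.app i₀ ⁻¹ᵁ O₁ := by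
        rw [← cX.w j.hom, Scheme.Hom.comp_preimage]
        exact h2
      rw [hO₁] at h3
      exact (Scheme.Opens.range_ι W).ge h3
    · rintro _ ⟨u, rfl⟩
      exact ⟨w u, by rw [← Scheme.Hom.comp_apply, ← hkW, Scheme.Hom.comp_apply]⟩
  have sA : IsPullback kA U.ι ιA kQ := IsOpenImmersion.isPullback kA U.ι ιA kQ hkU hkA
  have sB : IsPullback w W.ι ιB kQ := IsOpenImmersion.isPullback w W.ι ιB kQ hkW hkB
  haveI : IsAffineHom w := isAffineHom_of_isAffine w
  haveI : IsAffineHom kQ := by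
    refine IsZariskiLocalAtTarget.of_openCover cov fun t => ?_
    cases t
    · show IsAffineHom (pullback.snd kQ ιA)
      exact sA.flip.isoPullback_inv_snd ▸ inferInstance
    · show IsAffineHom (pullback.snd kQ ιB)
      exact sB.flip.isoPullback_inv_snd ▸ inferInstance
  have hkQ : kQ ≫ q = f := by
    refine (Scheme.Cover.hom_ext (X.openCoverOfIsOpenCover (fun t : ULift.{u} Bool => bif t.down then U else W) ?_) _ _ ?_)
    · refine TopologicalSpace.IsOpenCover.mk (eq_top_iff.2 fun x _ => ?_)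
      rcases hcov x with hx | hx
      · exact Opens.mem_iSup.2 ⟨⟨true⟩, hx⟩
      · exact Opens.mem_iSup.2 ⟨⟨false⟩, hx⟩
    · rintro ⟨_ | _⟩
      · show W.ι ≫ kQ ≫ q = W.ι ≫ f
        rw [reassoc_of% hkW, hqB, reassoc_of% hwω, Scheme.Hom.resLE_comp_ι]
      · show U.ι ≫ kQ ≫ q = U.ι ≫ f
        rw [reassoc_of% hkU, hqA, Category.assoc, huU]
        show eU.inv ≫ (eU.hom ≫ U.ι) ≫ f = _
        rw [Category.assoc, Iso.inv_hom_id_assoc]
  obtain ⟨P', p', k', hc', hq', hp', hk', hkp'⟩ := Graft.exists_hasModel q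
  haveI := hk'
  exact ⟨P', p', kQ ≫ k', hc', hq', hp', inferInstance, by rw [Category.assoc, hkp', hkQ]⟩

end Groth.Agent.TTApprox
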