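import Groth.Agent.TTApprox.RelChart
import Groth.Agent.TTApprox.Step

/-!
# The system of affine charts over the integers extending an approximation over one affine open
-/

set_option autoImplicit false
set_option linter.style.haveILetI false
set_option backward.isDefEq.respectTransparency false
set_option backward.isDefEq.respectTransparency.types false

universe u

open CategoryTheory CategoryTheory.Limits AlgebraicGeometry TopologicalSpace Opposite

attribute [-instance] CategoryTheory.catToReflQuiver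

noncomputable section

namespace Groth.Agent.TTApprox.Rel

instance Approx.instAff {X : Scheme.{u}} (P : Approx X) {i j : P.Iᵒᵖ} (a : i ⟶ j) : IsAffineHom (P.D.map a) :=
  P.aff i j a

instance Approx.instCpt {X : Scheme.{u}} (P : Approx X) (i : P.Iᵒᵖ) : CompactSpace (P.D.obj i) := P.cpt i

instance Approx.instQS {X : Scheme.{u}} (P : Approx X) (i : P.Iᵒᵖ) : QuasiSeparatedSpace (P.D.obj i) := by
  haveI := P.ft i
  haveI : IsNoetherianRing (ULift.{u} ℤ) := isNoetherianRing_of_ringEquiv ℤ ULift.ringEquiv.symm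
  haveI : IsNoetherianRing (CommRingCat.of (ULift.{u} ℤ)) := ‹_›
  haveI : IsLocallyNoetherian (P.D.obj i) :=
    LocallyOfFiniteType.isLocallyNoetherian (IsTerminal.from specULiftZIsTerminal (P.D.obj i))
  infer_instance

/-- What is needed to extend an approximation of `V` over an affine `W` glued to it along an open `OC`. -/
structure Data {V : Scheme.{u}} (P : Approx V) (W : Scheme.{u}) : Type (u + 1) where
  /-- A stage. -/
  i₀ : P.Iᵒᵖ
  /-- An open at that stage. -/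
  O₀ : (P.D.obj i₀).Opens
  hO₀ : IsCompact (O₀ : Set (P.D.obj i₀))
  /-- The inclusion of the overlap in the affine. -/
  b : ((P.π.app i₀ ⁻¹ᵁ O₀ : V.Opens) : Scheme.{u}) ⟶ W
  isOpen : IsOpenImmersion b
  cptOC : CompactSpace ((P.π.app i₀ ⁻¹ᵁ O₀ : V.Opens) : Scheme.{u})
  qsOC : QuasiSeparatedSpace ((P.π.app i₀ ⁻¹ᵁ O₀ : V.Opens) : Scheme.{u})
  /-- The index set of the functions. -/
  σ : Type u
  [fin : Finite σ]
  /-- The functions on the affine. -/
  f : σ → Γ(W, ⊤)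
  hf : ⨆ s, W.basicOpen (f s) = b.opensRange
  /-- The stage where the functions are defined. -/
  j : Over i₀
  /-- The functions on the stage. -/
  t : σ → Γ((opensDiagram P.D i₀ O₀).obj j, ⊤)
  ht : ∀ s, ((opensCone P.D (Cone.mk V P.π) i₀ O₀).π.app j).appTop (t s) = b.appTop (f s)
  htcov : ⨆ s, ((opensDiagram P.D i₀ O₀).obj j).basicOpen (t s) = ⊤
  htaff : ∀ s, IsAffineOpen (((opensDiagram P.D i₀ O₀).obj j).basicOpen (t s))

attribute [instance] Data.isOpen Data.cptOC Data.qsOC Data.fin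

variable {V W : Scheme.{u}} {P : Approx V} [IsAffine W] (d : Data P W)

namespace Data

/-- The diagram of overlaps. -/
abbrev Ds : Over d.i₀ ⥤ Scheme.{u} := opensDiagram P.D d.i₀ d.O₀

/-- The cone of overlaps. -/
abbrev cs : Cone d.Ds := opensCone P.D (Cone.mk V P.π) d.i₀ d.O₀

instance cptDs (n : Over d.i₀) : CompactSpace (d.Ds.obj n) :=
  isCompact_iff_compactSpace.mp ((P.D.map n.hom).isCompact_preimage d.hO₀)

instance qsDs (n : Over d.i₀) : QuasiSeparatedSpace (d.Ds.obj n) :=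
  (Scheme.Opens.ι _).isOpenEmbedding.quasiSeparatedSpace

instance lftDs (n : Over d.i₀) :
    LocallyOfFiniteType (IsTerminal.from specULiftZIsTerminal (d.Ds.obj n)) := by
  haveI := P.ft n.left
  have h : IsTerminal.from specULiftZIsTerminal (d.Ds.obj n) =
      (P.D.map n.hom ⁻¹ᵁ d.O₀).ι ≫ IsTerminal.from specULiftZIsTerminal (P.D.obj n.left) :=
    specULiftZIsTerminal.hom_ext _ _
  rw [h]
  infer_instance

instance subsingletonOver (n n' : Over d.i₀) : Subsingleton (n ⟶ n') :=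
  ⟨fun a a' => Over.OverMorphism.ext (Subsingleton.elim _ _)⟩

/-- The overlap at a stage under `d.j`. -/
def node (i : P.I) (k : op i ⟶ d.j.left) : Over d.i₀ := Over.mk (k ≫ d.j.hom)

/-- A stage under `d.j` maps to it. -/
def toJ (i : P.I) (k : op i ⟶ d.j.left) : d.node i k ⟶ d.j := Over.homMk k rfl

/-- The functions cutting out the overlap at a stage. -/
def c (i : P.I) (k : op i ⟶ d.j.left) (s : d.σ) : Γ(d.Ds.obj (d.node i k), ⊤) :=
  (d.Ds.map (d.toJ i k)).appTop (d.t s)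

omit [IsAffine W] in
theorem hcf (i : P.I) (k : op i ⟶ d.j.left) (s : d.σ) :
    (d.cs.π.app (d.node i k)).appTop (d.c i k s) = d.b.appTop (d.f s) := by
  rw [← d.ht s, ← d.cs.w (d.toJ i k), Scheme.Hom.comp_appTop]
  rfl

omit [IsAffine W] in
theorem hc (i : P.I) (k : op i ⟶ d.j.left) :
    ⨆ s, (d.Ds.obj (d.node i k)).basicOpen (d.c i k s) = ⊤ := by
  simp only [c, ← Scheme.preimage_basicOpen_top, ← Scheme.Hom.preimage_iSup]
  rw [d.htcov]
  rfl

omit [IsAffine W] in
theorem haff (i : P.I) (k : op i ⟶ d.j.left) (s : d.σ) :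
    IsAffineOpen ((d.Ds.obj (d.node i k)).basicOpen (d.c i k s)) := by
  show IsAffineOpen ((d.Ds.obj (d.node i k)).basicOpen ((d.Ds.map (d.toJ i k)).appTop (d.t s)))
  rw [← Scheme.preimage_basicOpen_top]
  exact (d.htaff s).preimage _

/-- Compatible subalgebras at a stage. -/
abbrev Good (i : P.I) (k : op i ⟶ d.j.left) (A : Subalgebra ℤ (Γ(d.Ds.obj (d.node i k), ⊤) × Γ(W, ⊤))) :
    Prop :=
  IsGood (d.cs.π.app (d.node i k)) d.b d.f (d.c i k) A

/-- The stages of the extension. -/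
structure Idx : Type u where
  /-- The stage of the given system. -/
  i : P.I
  /-- It is below the chosen one. -/
  k : op i ⟶ d.j.left
  /-- The functions on the new affine. -/
  A : Subalgebra ℤ (Γ(d.Ds.obj (d.node i k), ⊤) × Γ(W, ⊤))
  fg : A.FG
  good : d.Good i k A

/-- The transition of overlaps. -/
def rho {i i' : P.I} (k : op i ⟶ d.j.left) (k' : op i' ⟶ d.j.left) (h : i ≤ i') :
    d.node i' k' ⟶ d.node i k :=
  Over.homMk (homOfLE h).op (Subsingleton.elim _ _)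

/-- The transition of pairs. -/
def res {i i' : P.I} (k : op i ⟶ d.j.left) (k' : op i' ⟶ d.j.left) (h : i ≤ i') :
    Γ(d.Ds.obj (d.node i k), ⊤) × Γ(W, ⊤) →ₐ[ℤ] Γ(d.Ds.obj (d.node i' k'), ⊤) × Γ(W, ⊤) :=
  ((d.Ds.map (d.rho k k' h)).appTop.hom.prodMap (RingHom.id _)).toIntAlgHom

omit [IsAffine W] in
theorem res_res {i i' i'' : P.I} (k : op i ⟶ d.j.left) (k' : op i' ⟶ d.j.left) (k'' : op i'' ⟶ d.j.left)
    (h : i ≤ i') (h' : i' ≤ i'') (x : Γ(d.Ds.obj (d.node i k), ⊤) × Γ(W, ⊤)) :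
    d.res k' k'' h' (d.res k k' h x) = d.res k k'' (h.trans h') x := by
  refine Prod.ext ?_ rfl
  show (d.Ds.map (d.rho k' k'' h')).appTop ((d.Ds.map (d.rho k k' h)).appTop x.1) =
    (d.Ds.map (d.rho k k'' (h.trans h'))).appTop x.1
  rw [Subsingleton.elim (d.rho k k'' (h.trans h')) (d.rho k' k'' h' ≫ d.rho k k' h), Functor.map_comp,
    Scheme.Hom.comp_appTop]
  rfl

omit [IsAffine W] in
theorem res_self {i : P.I} (k : op i ⟶ d.j.left) (x : Γ(d.Ds.obj (d.node i k), ⊤) × Γ(W, ⊤)) :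
    d.res k k le_rfl x = x := by
  refine Prod.ext ?_ rfl
  show (d.Ds.map (d.rho k k le_rfl)).appTop x.1 = x.1
  rw [Subsingleton.elim (d.rho k k le_rfl) (𝟙 _), CategoryTheory.Functor.map_id]
  rfl

omit [IsAffine W] in
theorem res_pair {i i' : P.I} (k : op i ⟶ d.j.left) (k' : op i' ⟶ d.j.left) (h : i ≤ i')
    {x : Γ(d.Ds.obj (d.node i k), ⊤) × Γ(W, ⊤)} (hx : x ∈ pairAlg (d.cs.π.app (d.node i k)) d.b) :
    d.res k k' h x ∈ pairAlg (d.cs.π.app (d.node i' k')) d.b := by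
  show (d.cs.π.app (d.node i' k')).appTop ((d.Ds.map (d.rho k k' h)).appTop x.1) = d.b.appTop x.2
  refine Eq.trans ?_ (show (d.cs.π.app (d.node i k)).appTop x.1 = d.b.appTop x.2 from hx)
  rw [← d.cs.w (d.rho k k' h), Scheme.Hom.comp_appTop]
  rfl

omit [IsAffine W] in
theorem res_ct {i i' : P.I} (k : op i ⟶ d.j.left) (k' : op i' ⟶ d.j.left) (h : i ≤ i') (s : d.σ) :
    d.res k k' h (d.c i k s, d.f s) = (d.c i' k' s, d.f s) := by
  refine Prod.ext ?_ rfl
  show (d.Ds.map (d.rho k k' h)).appTop ((d.Ds.map (d.toJ i k)).appTop (d.t s)) =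
    (d.Ds.map (d.toJ i' k')).appTop (d.t s)
  rw [Subsingleton.elim (d.toJ i' k') (d.rho k k' h ≫ d.toJ i k), Functor.map_comp,
    Scheme.Hom.comp_appTop]
  rfl

instance preorderIdx : Preorder d.Idx where
  le x y := ∃ h : x.i ≤ y.i, x.A ≤ y.A.comap (d.res x.k y.k h)
  le_refl x := ⟨le_rfl, fun a ha => by
    show d.res x.k x.k le_rfl a ∈ x.A
    rw [res_self]; exact ha⟩
  le_trans x y z hxy hyz := ⟨hxy.1.trans hyz.1, fun a ha => by
    show d.res x.k z.k (hxy.1.trans hyz.1) a ∈ z.A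
    rw [← d.res_res x.k y.k z.k hxy.1 hyz.1]
    exact hyz.2 (hxy.2 ha)⟩

/-- Enlarging a finitely generated algebra of pairs to a stage. -/
theorem exists_idx (i : P.I) (k : op i ⟶ d.j.left)
    (B : Subalgebra ℤ (Γ(d.Ds.obj (d.node i k), ⊤) × Γ(W, ⊤))) (hB : B.FG)
    (hBP : B ≤ pairAlg (d.cs.π.app (d.node i k)) d.b) :
    ∃ (A : Subalgebra ℤ (Γ(d.Ds.obj (d.node i k), ⊤) × Γ(W, ⊤))) (h1 : A.FG) (h2 : d.Good i k A),
      B ≤ (Idx.mk i k A h1 h2).A := by
  obtain ⟨A, hA, hg⟩ := exists_fg_good (O := ((P.π.app d.i₀ ⁻¹ᵁ d.O₀ : V.Opens) : Scheme.{u})) (d.cs.π.app (d.node i k)) d.b d.f (d.c i k) (d.hcf i k) d.hf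
    (d.haff i k) (d.lftDs (d.node i k))
  exact ⟨A ⊔ B, hA.sup hB, hg.mono _ _ _ _ le_sup_left (sup_le hg.le hBP), le_sup_right⟩

instance nonemptyIdx : Nonempty d.Idx := by
  obtain ⟨A, h1, h2, -⟩ := d.exists_idx d.j.left.unop (𝟙 _) ⊥ Subalgebra.fg_bot bot_le
  exact ⟨⟨_, _, A, h1, h2⟩⟩

omit [IsAffine W] in
theorem exists_k (i : P.I) : ∃ (i' : P.I) (_ : i ≤ i'), Nonempty (op i' ⟶ d.j.left) := by
  obtain ⟨i', h1, h2⟩ := exists_ge_ge i d.j.left.unop
  exact ⟨i', h1, ⟨(homOfLE h2).op⟩⟩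

instance directedIdx : IsDirected d.Idx (fun x y => x ≤ y) where
  directed x y := by
    obtain ⟨i, hxi, hyi⟩ := exists_ge_ge x.i y.i
    have k : op i ⟶ d.j.left := (homOfLE hxi).op ≫ x.k
    obtain ⟨A, h1, h2, hle⟩ := d.exists_idx i k
      (x.A.map (d.res x.k k hxi) ⊔ y.A.map (d.res y.k k hyi)) ((x.fg.map _).sup (y.fg.map _))
      (sup_le (Subalgebra.map_le.2 fun a ha => d.res_pair _ _ _ (x.good.le ha))
        (Subalgebra.map_le.2 fun a ha => d.res_pair _ _ _ (y.good.le ha)))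
    exact ⟨⟨i, k, A, h1, h2⟩, ⟨hxi, Subalgebra.map_le.1 (le_sup_left.trans hle)⟩,
      ⟨hyi, Subalgebra.map_le.1 (le_sup_right.trans hle)⟩⟩

/-- The index map. -/
def α : d.Idx →o P.I := ⟨fun x => x.i, fun _ _ h => h.1⟩

theorem final_α : d.α.monotone.functor.Final :=
  Functor.final_of_exists_of_isFiltered _ (fun i => by
    obtain ⟨i', h, ⟨k⟩⟩ := d.exists_k i
    obtain ⟨A, h1, h2, -⟩ := d.exists_idx i' k ⊥ Subalgebra.fg_bot bot_le
    exact ⟨⟨i', k, A, h1, h2⟩, ⟨homOfLE h⟩⟩) fun {i x} s s' => ⟨x, 𝟙 x, Subsingleton.elim _ _⟩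

/-- The algebras of functions on the new affines. -/
def algs : d.Idx ⥤ CommRingCat.{u} where
  obj x := CommRingCat.of x.A
  map {x y} a := CommRingCat.ofHom
    (((d.res x.k y.k (leOfHom a).1).comp x.A.val).codRestrict y.A fun z => (leOfHom a).2 z.2).toRingHom
  map_id x := CommRingCat.hom_ext (RingHom.ext fun (z : x.A) => Subtype.ext (d.res_self x.k z.1))
  map_comp {x y w} a a' := CommRingCat.hom_ext (RingHom.ext fun (z : x.A) =>
    Subtype.ext (d.res_res x.k y.k w.k (leOfHom a).1 (leOfHom a').1 z.1).symm)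

/-- Their maps to the functions of `W`. -/
def algsCocone : Cocone d.algs where
  pt := Γ(W, ⊤)
  ι :=
    { app := fun x => pr₂ x.A
      naturality := fun x y a => by
        ext z
        rfl }

/-- The functions on `W` are the colimit. -/
theorem nonempty_isColimit : Nonempty (IsColimit d.algsCocone) := by
  classical
  have hcs := isLimitOpensCone P.D (Cone.mk V P.π) P.hc d.i₀ d.O₀
  haveI : PreservesColimit d.algs (CategoryTheory.forget CommRingCat.{u}) := inferInstance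
  haveI : HasColimit d.algs := inferInstance
  haveI : ReflectsColimit d.algs (CategoryTheory.forget CommRingCat.{u}) :=
    reflectsColimit_of_reflectsIsomorphisms _ _
  refine ⟨isColimitOfReflects (CategoryTheory.forget CommRingCat) (Types.FilteredColimit.isColimitOf _ _ ?_ ?_)⟩
  · intro w
    obtain ⟨n, p, hp⟩ := exists_appTop_π_eq_of_isLimit d.Ds d.cs hcs (d.b.appTop w)
    obtain ⟨i, h₁, h₂⟩ := exists_ge_ge n.left.unop d.j.left.unop
    let k : op i ⟶ d.j.left := (homOfLE h₂).op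
    let r : d.node i k ⟶ n := Over.homMk (homOfLE h₁).op (Subsingleton.elim _ _)
    let q : Γ(d.Ds.obj (d.node i k), ⊤) × Γ(W, ⊤) := ((d.Ds.map r).appTop p, w)
    have hq : q ∈ pairAlg (d.cs.π.app (d.node i k)) d.b := by
      show (d.cs.π.app (d.node i k)).appTop ((d.Ds.map r).appTop p) = d.b.appTop w
      rw [hp, ← d.cs.w r, Scheme.Hom.comp_appTop]
      rfl
    obtain ⟨A, h1, h2, hle⟩ := d.exists_idx i k (Algebra.adjoin ℤ {q})
      (by simpa using Subalgebra.fg_adjoin_finset {q})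
      (Algebra.adjoin_le (Set.singleton_subset_iff.2 hq))
    exact ⟨⟨i, k, A, h1, h2⟩, ⟨q, hle (Algebra.subset_adjoin rfl)⟩, rfl⟩
  · intro x y a a' haa'
    change a.1.2 = a'.1.2 at haa'
    obtain ⟨z, hxz, hyz⟩ := exists_ge_ge x y
    let pa := d.res x.k z.k hxz.1 a.1
    let pa' := d.res y.k z.k hyz.1 a'.1
    have h0 : (d.cs.π.app (d.node z.i z.k)).appTop (pa.1 - pa'.1) = 0 := by
      have e1 : (d.cs.π.app (d.node z.i z.k)).appTop.hom pa.1 = d.b.appTop.hom a.1.2 :=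
        z.good.le (hxz.2 a.2)
      have e2 : (d.cs.π.app (d.node z.i z.k)).appTop.hom pa'.1 = d.b.appTop.hom a'.1.2 :=
        z.good.le (hyz.2 a'.2)
      rw [map_sub, e1, e2, haa', sub_self]
    obtain ⟨n, r, hr⟩ := exists_appTop_map_eq_zero_of_isLimit d.Ds d.cs hcs _ h0
    obtain ⟨i, h₁, h₂⟩ := exists_ge_ge n.left.unop z.i
    let k : op i ⟶ d.j.left := (homOfLE h₂).op ≫ z.k
    let r' : d.node i k ⟶ n := Over.homMk (homOfLE h₁).op (Subsingleton.elim _ _)
    obtain ⟨A, h1, h2, hle⟩ := d.exists_idx i k (z.A.map (d.res z.k k h₂)) (z.fg.map _)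
      (Subalgebra.map_le.2 fun a ha => d.res_pair _ _ _ (z.good.le ha))
    let w : d.Idx := ⟨i, k, A, h1, h2⟩
    have hzw : z ≤ w := ⟨h₂, Subalgebra.map_le.1 hle⟩
    refine ⟨w, homOfLE (hxz.trans hzw), homOfLE (hyz.trans hzw), Subtype.ext (Prod.ext ?_ haa')⟩
    show (d.res x.k k (hxz.1.trans h₂) a.1).1 = (d.res y.k k (hyz.1.trans h₂) a'.1).1
    rw [← d.res_res x.k z.k k hxz.1 h₂, ← d.res_res y.k z.k k hyz.1 h₂]
    show (d.Ds.map (d.rho z.k k h₂)).appTop pa.1 = (d.Ds.map (d.rho z.k k h₂)).appTop pa'.1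
    rw [← sub_eq_zero, ← map_sub, Subsingleton.elim (d.rho z.k k h₂) (r' ≫ r), Functor.map_comp,
      Scheme.Hom.comp_appTop, CommRingCat.comp_apply, hr, map_zero]

/-- The new affines. -/
def affs : d.Idxᵒᵖ ⥤ Scheme.{u} := d.algs.op ⋙ Scheme.Spec

/-- The cone of the new affines on `W`. -/
def affsCone : Cone d.affs where
  pt := W
  π :=
    { app := fun x => chartW x.unop.A
      naturality := fun x y a => by
        show 𝟙 W ≫ W.toSpecΓ ≫ Spec.map (pr₂ y.unop.A) =
          (W.toSpecΓ ≫ Spec.map (pr₂ x.unop.A)) ≫ Spec.map (d.algs.map a.unop)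
        rw [Category.id_comp, Category.assoc, ← Spec.map_comp]
        exact congrArg (fun m => W.toSpecΓ ≫ Spec.map m) (d.algsCocone.w a.unop).symm }

/-- `W` is the limit of the new affines. -/
theorem nonempty_isLimit : Nonempty (IsLimit d.affsCone) := by
  obtain ⟨h⟩ := d.nonempty_isColimit
  exact ⟨IsLimit.ofIsoLimit (isLimitOfPreserves Scheme.Spec h.op)
    (Cone.ext W.isoSpec.symm fun x => (Iso.inv_hom_id_assoc W.isoSpec _).symm)⟩

end Data

end Groth.Agent.TTApprox.Rel
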