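import Groth.Prelude
import Groth.Agent.MorLib.BaseChangeLim

/-!
# Approximations of schemes over the integers extending given ones along open immersions
-/

set_option autoImplicit false
set_option linter.style.haveILetI false
set_option backward.isDefEq.respectTransparency false
set_option backward.isDefEq.respectTransparency.types false

universe u

open CategoryTheory CategoryTheory.Limits AlgebraicGeometry TopologicalSpace Opposite

attribute [-instance] CategoryTheory.catToReflQuiver

noncomputable section

namespace Groth.Agent.TTApprox.Rel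

/-- A presentation of a scheme as a limit of schemes of finite type over the integers. -/
structure Approx (X : Scheme.{u}) : Type (u + 1) where
  /-- The index set. -/
  I : Type u
  [pre : Preorder I]
  [dir : IsDirected I (fun a b => a ≤ b)]
  [ne : Nonempty I]
  /-- The system. -/
  D : Iᵒᵖ ⥤ Scheme.{u}
  /-- The projections. -/
  π : (Functor.const Iᵒᵖ).obj X ⟶ D
  /-- The limit property. -/
  hc : IsLimit (Cone.mk X π)
  aff : ∀ (i j : Iᵒᵖ) (a : i ⟶ j), IsAffineHom (D.map a)
  cpt : ∀ i, CompactSpace (D.obj i)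
  ft : ∀ i, LocallyOfFiniteType (IsTerminal.from specULiftZIsTerminal (D.obj i))

attribute [instance] Approx.pre Approx.dir Approx.ne

/-- An approximation of `S` extending one of `V` along `v : V ⟶ S`. -/
structure Ext {V S : Scheme.{u}} (v : V ⟶ S) (P : Approx V) : Type (u + 1) where
  /-- The approximation of `S`. -/
  Q : Approx S
  /-- The index map. -/
  α : Q.I →o P.I
  /-- The open immersions of the stages. -/
  ι : ∀ x : Q.I, P.D.obj (op (α x)) ⟶ Q.D.obj (op x)
  isOpen : ∀ x, IsOpenImmersion (ι x)
  sq : ∀ (x y : Q.I) (h : y ≤ x),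
    IsPullback (P.D.map (homOfLE (α.mono h)).op) (ι x) (ι y) (Q.D.map (homOfLE h).op)
  proj : ∀ x, IsPullback (P.π.app (op (α x))) v (ι x) (Q.π.app (op x))

/-- Extensions compose. -/
def Ext.comp {V U S : Scheme.{u}} {v : V ⟶ U} {v' : U ⟶ S} {P : Approx V} (E : Ext v P)
    (E' : Ext v' E.Q) : Ext (v ≫ v') P where
  Q := E'.Q
  α := E.α.comp E'.α
  ι x := E.ι (E'.α x) ≫ E'.ι x
  isOpen x := by haveI := E.isOpen (E'.α x); haveI := E'.isOpen x; infer_instance
  sq x y h := (E.sq _ _ (E'.α.mono h)).paste_vert (E'.sq x y h)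
  proj x := (E.proj _).paste_vert (E'.proj x)

/-- The trivial extension along an isomorphism. -/
def Ext.ofIso {V S : Scheme.{u}} (e : V ≅ S) (P : Approx V) : Ext e.hom P where
  Q :=
    { I := P.I
      D := P.D
      π := (Functor.const _).map e.inv ≫ P.π
      hc := IsLimit.ofIsoLimit P.hc (Cone.ext e fun j => (e.hom_inv_id_assoc _).symm)
      aff := P.aff
      cpt := P.cpt
      ft := P.ft }
  α := OrderHom.id
  ι x := 𝟙 _
  isOpen x := inferInstance
  sq x y h := IsPullback.of_vert_isIso ⟨by
    show P.D.map _ ≫ 𝟙 _ = 𝟙 _ ≫ P.D.map _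
    rw [Category.comp_id, Category.id_comp]⟩
  proj x := IsPullback.of_vert_isIso ⟨by
    show P.π.app _ ≫ 𝟙 _ = e.hom ≫ e.inv ≫ P.π.app _
    rw [Category.comp_id, e.hom_inv_id_assoc]⟩

end Groth.Agent.TTApprox.Rel
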