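import Groth.Agent.TTApprox.RelData
import Groth.Agent.LocImmLib.Glue

/-!
# Gluing the affine charts to an approximation of the open
-/

set_option autoImplicit false
set_option linter.style.haveILetI false
set_option backward.isDefEq.respectTransparency false
set_option backward.isDefEq.respectTransparency.types false

universe u

open CategoryTheory CategoryTheory.Limits AlgebraicGeometry TopologicalSpace Opposite

attribute [-instance] CategoryTheory.catToReflQuiver

noncomputable section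

namespace Groth.Agent.TTApprox.Rel

namespace Data

variable {V W : Scheme.{u}} {P : Approx V} [IsAffine W] (d : Data P W)

/-- The overlap as a scheme. -/
abbrev OC : Scheme.{u} := ((P.π.app d.i₀ ⁻¹ᵁ d.O₀ : V.Opens) : Scheme.{u})

/-- The overlap at a stage of the extension. -/
abbrev T (x : d.Idx) : Scheme.{u} := d.Ds.obj (d.node x.i x.k)

/-- Its inclusion in the given stage. -/
def zA (x : d.Idx) : d.T x ⟶ P.D.obj (op x.i) :=
  (P.D.map (d.node x.i x.k).hom ⁻¹ᵁ d.O₀).ι

instance (x : d.Idx) : IsOpenImmersion (d.zA x) :=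
  inferInstanceAs (IsOpenImmersion (P.D.map (d.node x.i x.k).hom ⁻¹ᵁ d.O₀).ι)

/-- Its inclusion in the new affine. -/
def zB (x : d.Idx) : d.T x ⟶ Spec (CommRingCat.of x.A) := chartE x.A

theorem zB_spec (x : d.Idx) :
    IsOpenImmersion (d.zB x) ∧
      Set.range (d.zB x) =
        ⋃ s, (PrimeSpectrum.basicOpen (⟨(d.c x.i x.k s, d.f s), x.good.mem s⟩ : x.A) : Set (PrimeSpectrum x.A)) ∧
      chartW x.A ⁻¹' Set.range (d.zB x) = Set.range d.b :=
  chart_spec (O := d.OC) (d.cs.π.app (d.node x.i x.k)) d.b d.f (d.c x.i x.k) x.A (d.hcf x.i x.k) d.hf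
    (d.hc x.i x.k) (d.haff x.i x.k) x.good

instance (x : d.Idx) : IsOpenImmersion (d.zB x) := (d.zB_spec x).1

/-- The stage of the extension. -/
def stage (x : d.Idx) : Scheme.{u} := pushout (d.zA x) (d.zB x)

/-- The given stage in the new one. -/
def inA (x : d.Idx) : P.D.obj (op x.i) ⟶ d.stage x := pushout.inl (d.zA x) (d.zB x)

/-- The new affine in the new stage. -/
def inB (x : d.Idx) : Spec (CommRingCat.of x.A) ⟶ d.stage x := pushout.inr (d.zA x) (d.zB x)

instance (x : d.Idx) : IsOpenImmersion (d.inA x) :=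
  inferInstanceAs (IsOpenImmersion (pushout.inl (d.zA x) (d.zB x)))

instance (x : d.Idx) : IsOpenImmersion (d.inB x) :=
  inferInstanceAs (IsOpenImmersion (pushout.inr (d.zA x) (d.zB x)))

theorem stage_cov (x : d.Idx) (z : d.stage x) :
    z ∈ Set.range (d.inA x) ∨ z ∈ Set.range (d.inB x) :=
  LocImmLib.pushout_jointly_surjective (d.zA x) (d.zB x) z

theorem stage_eq_iff (x : d.Idx) {u : P.D.obj (op x.i)} {v : Spec (CommRingCat.of x.A)} :
    d.inA x u = d.inB x v ↔ ∃ z, d.zA x z = u ∧ d.zB x z = v :=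
  LocImmLib.pushout_eq_iff (d.zA x) (d.zB x)

variable {x y : d.Idx} (h : y ≤ x)

/-- The transition on the given stages. -/
def trA : P.D.obj (op x.i) ⟶ P.D.obj (op y.i) := P.D.map (homOfLE h.1).op

/-- The transition on the overlaps. -/
def trT : d.T x ⟶ d.T y := d.Ds.map (d.rho y.k x.k h.1)

/-- The transition on the new affines. -/
def trB : Spec (CommRingCat.of x.A) ⟶ Spec (CommRingCat.of y.A) := Spec.map (d.algs.map (homOfLE h))

theorem trT_zA : d.trT h ≫ d.zA y = d.zA x ≫ d.trA h := Scheme.Hom.resLE_comp_ι _ _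

theorem trT_zB : d.trT h ≫ d.zB y = d.zB x ≫ d.trB h := by
  show d.trT h ≫ (d.T y).toSpecΓ ≫ Spec.map (pr₁ y.A) = ((d.T x).toSpecΓ ≫ Spec.map (pr₁ x.A)) ≫ _
  rw [Scheme.toSpecΓ_naturality_assoc, Category.assoc, ← Spec.map_comp, trB, ← Spec.map_comp]
  rfl

/-- The transition of the new stages. -/
def trS : d.stage x ⟶ d.stage y :=
  pushout.map (d.zA x) (d.zB x) (d.zA y) (d.zB y) (d.trA h) (d.trB h) (d.trT h)
    (d.trT_zA h).symm (d.trT_zB h).symm

theorem inA_trS : d.inA x ≫ d.trS h = d.trA h ≫ d.inA y := pushout.inl_desc _ _ _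

theorem inB_trS : d.inB x ≫ d.trS h = d.trB h ≫ d.inB y := pushout.inr_desc _ _ _

theorem trB_mem_range (v : Spec (CommRingCat.of x.A)) (hv : d.trB h v ∈ Set.range (d.zB y)) :
    v ∈ Set.range (d.zB x) := by
  rw [(d.zB_spec y).2.1] at hv
  rw [(d.zB_spec x).2.1]
  obtain ⟨s, hs⟩ := Set.mem_iUnion.1 hv
  refine Set.mem_iUnion.2 ⟨s, ?_⟩
  have e : (d.algs.map (homOfLE h)).hom (⟨(d.c y.i y.k s, d.f s), y.good.mem s⟩ : y.A) =
      (⟨(d.c x.i x.k s, d.f s), x.good.mem s⟩ : x.A) := Subtype.ext (d.res_ct y.k x.k h.1 s)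
  intro hmem
  exact hs (show (d.algs.map (homOfLE h)).hom _ ∈ v.asIdeal from e ▸ hmem)

theorem trA_mem_range (u : P.D.obj (op x.i)) (hu : d.trA h u ∈ Set.range (d.zA y)) :
    u ∈ Set.range (d.zA x) := by
  obtain ⟨z, hz⟩ := hu
  have hmem : d.trA h u ∈ P.D.map (d.node y.i y.k).hom ⁻¹ᵁ d.O₀ := hz ▸ z.2
  have hmem' : u ∈ P.D.map (d.node x.i x.k).hom ⁻¹ᵁ d.O₀ := by
    rw [Subsingleton.elim (d.node x.i x.k).hom ((homOfLE h.1).op ≫ (d.node y.i y.k).hom), Functor.map_comp,
      Scheme.Hom.comp_preimage]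
    exact hmem
  exact ⟨⟨u, hmem'⟩, rfl⟩

theorem trS_inA (z : d.stage x) (hz : d.trS h z ∈ Set.range (d.inA y)) : z ∈ Set.range (d.inA x) := by
  rcases d.stage_cov x z with hA | ⟨v, rfl⟩
  · exact hA
  obtain ⟨u, hu⟩ := hz
  have h1 : d.inA y u = d.inB y (d.trB h v) := by
    rw [hu, ← Scheme.Hom.comp_apply, inB_trS, Scheme.Hom.comp_apply]
  obtain ⟨t, -, ht⟩ := (d.stage_eq_iff y).1 h1
  obtain ⟨t', rfl⟩ := d.trB_mem_range h v ⟨t, ht⟩
  exact ⟨d.zA x t', (d.stage_eq_iff x).2 ⟨t', rfl, rfl⟩⟩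

theorem trS_inB (z : d.stage x) (hz : d.trS h z ∈ Set.range (d.inB y)) : z ∈ Set.range (d.inB x) := by
  rcases d.stage_cov x z with ⟨u, rfl⟩ | hB
  swap
  · exact hB
  obtain ⟨v, hv⟩ := hz
  have h1 : d.inA y (d.trA h u) = d.inB y v := by
    rw [hv, ← Scheme.Hom.comp_apply, ← inA_trS d h, Scheme.Hom.comp_apply]
  obtain ⟨t, ht, -⟩ := (d.stage_eq_iff y).1 h1
  obtain ⟨t', rfl⟩ := d.trA_mem_range h u ⟨t, ht⟩
  exact ⟨d.zB x t', ((d.stage_eq_iff x).2 ⟨t', rfl, rfl⟩).symm⟩

theorem sqA : IsPullback (d.trA h) (d.inA x) (d.inA y) (d.trS h) :=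
  IsOpenImmersion.isPullback _ _ _ _ (d.inA_trS h) (Opens.ext (Set.Subset.antisymm
    (fun z hz => d.trS_inA h z hz) (by
      rintro _ ⟨u, rfl⟩
      exact ⟨d.trA h u, by rw [← Scheme.Hom.comp_apply, ← inA_trS, Scheme.Hom.comp_apply]⟩)))

theorem sqB : IsPullback (d.trB h) (d.inB x) (d.inB y) (d.trS h) :=
  IsOpenImmersion.isPullback _ _ _ _ (d.inB_trS h) (Opens.ext (Set.Subset.antisymm
    (fun z hz => d.trS_inB h z hz) (by
      rintro _ ⟨u, rfl⟩
      exact ⟨d.trB h u, by rw [← Scheme.Hom.comp_apply, ← inB_trS, Scheme.Hom.comp_apply]⟩)))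

/-- The system of new stages. -/
def sys : d.Idxᵒᵖ ⥤ Scheme.{u} where
  obj x := d.stage x.unop
  map {x y} a := d.trS (leOfHom a.unop)
  map_id x := by
    apply pushout.hom_ext
    · refine (d.inA_trS _).trans ?_
      show P.D.map _ ≫ d.inA x.unop = d.inA x.unop ≫ 𝟙 (d.stage x.unop)
      rw [Category.comp_id, Subsingleton.elim (homOfLE (leOfHom (𝟙 x : x ⟶ x).unop).1).op (𝟙 _),
        CategoryTheory.Functor.map_id, Category.id_comp]
    · refine (d.inB_trS _).trans ?_
      show Spec.map _ ≫ d.inB x.unop = d.inB x.unop ≫ 𝟙 (d.stage x.unop)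
      rw [Category.comp_id, Subsingleton.elim (homOfLE (leOfHom (𝟙 x : x ⟶ x).unop)) (𝟙 _),
        CategoryTheory.Functor.map_id]
      exact (congrArg (fun m => m ≫ d.inB x.unop) (Spec.map_id _)).trans (Category.id_comp _)
  map_comp {x y w} a a' := by
    apply pushout.hom_ext
    · show d.inA x.unop ≫ d.trS _ = d.inA x.unop ≫ d.trS _ ≫ d.trS _
      rw [inA_trS, reassoc_of% (d.inA_trS (leOfHom a.unop)), inA_trS, ← Category.assoc]
      refine congrArg (· ≫ d.inA w.unop) ?_
      show P.D.map _ = P.D.map _ ≫ P.D.map _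
      rw [← Functor.map_comp]
      exact congrArg P.D.map (Subsingleton.elim _ _)
    · show d.inB x.unop ≫ d.trS _ = d.inB x.unop ≫ d.trS _ ≫ d.trS _
      rw [inB_trS, reassoc_of% (d.inB_trS (leOfHom a.unop)), inB_trS, ← Category.assoc]
      refine congrArg (· ≫ d.inB w.unop) ?_
      show Spec.map _ = Spec.map _ ≫ Spec.map _
      rw [← Spec.map_comp, ← Functor.map_comp]
      exact congrArg (fun m => Spec.map (d.algs.map m)) (Subsingleton.elim _ _)

theorem isAffineHom_trS : IsAffineHom (d.trS h) := by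
  haveI : IsAffineHom (d.trA h) := P.aff _ _ _
  haveI : IsAffineHom (d.trB h) := isAffineHom_of_isAffine _
  exact isAffineHom_of_two (d.inA y) (d.inB y) (d.stage_cov y) (d.sqA h) (d.sqB h)

theorem compactSpace_stage (x : d.Idx) : CompactSpace (d.stage x) := by
  constructor
  have : (Set.univ : Set (d.stage x)) = Set.range (d.inA x) ∪ Set.range (d.inB x) :=
    (Set.eq_univ_of_forall (d.stage_cov x)).symm
  rw [this]
  exact (isCompact_range (d.inA x).continuous).union (isCompact_range (d.inB x).continuous)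

theorem lft_stage (x : d.Idx) :
    LocallyOfFiniteType (IsTerminal.from specULiftZIsTerminal (d.stage x)) := by
  haveI := P.ft (op x.i)
  haveI : Algebra.FiniteType ℤ x.A := (Subalgebra.fg_iff_finiteType x.A).1 x.fg
  have hB : LocallyOfFiniteType (IsTerminal.from specULiftZIsTerminal (Spec (CommRingCat.of x.A))) := by
    let φ : CommRingCat.of (ULift.{u} ℤ) ⟶ CommRingCat.of x.A :=
      CommRingCat.ofHom ((algebraMap ℤ x.A).comp ULift.ringEquiv.toRingHom)
    rw [specULiftZIsTerminal.hom_ext (IsTerminal.from specULiftZIsTerminal _) (Spec.map φ)]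
    exact (HasRingHomProperty.Spec_iff (P := @LocallyOfFiniteType)).2
      ((RingHom.finiteType_algebraMap.2 ‹_›).comp (RingHom.FiniteType.of_surjective _ ULift.ringEquiv.surjective))
  refine IsZariskiLocalAtSource.of_openCover (P := @LocallyOfFiniteType)
    (cover₂ (d.inA x) (d.inB x) (d.stage_cov x)) fun t => ?_
  cases t
  · show LocallyOfFiniteType (d.inA x ≫ _)
    rw [specULiftZIsTerminal.hom_ext (d.inA x ≫ _) (IsTerminal.from specULiftZIsTerminal _)]
    infer_instance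
  · show LocallyOfFiniteType (d.inB x ≫ _)
    rw [specULiftZIsTerminal.hom_ext (d.inB x ≫ _) (IsTerminal.from specULiftZIsTerminal _)]
    exact hB

end Data

end Groth.Agent.TTApprox.Rel
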