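import Groth.Agent.TTApprox.RelGlue
import Groth.Agent.ConsPropLib.Union

/-!
# Extending an approximation over one affine open
-/

set_option autoImplicit false
set_option linter.style.haveILetI false
set_option backward.isDefEq.respectTransparency false
set_option backward.isDefEq.respectTransparency.types false

universe u

open CategoryTheory CategoryTheory.Limits AlgebraicGeometry TopologicalSpace Opposite

attribute [-instance] CategoryTheory.catToReflQuiver

noncomputable section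

namespace Groth.Agent.TTApprox.Rel

namespace Data

variable {S : Scheme.{u}} {U W : S.Opens} [IsAffine (W : Scheme.{u})]
  {P : Approx (U : Scheme.{u})} (d : Data P (W : Scheme.{u}))
  (hcov : ∀ z : S, z ∈ U ∨ z ∈ W) (hb : d.b ≫ W.ι = (P.π.app d.i₀ ⁻¹ᵁ d.O₀).ι ≫ U.ι)
  (hO : P.π.app d.i₀ ⁻¹ᵁ d.O₀ = U.ι ⁻¹ᵁ W)

include hcov hb hO in
theorem exists_proj (x : d.Idx) : ∃ g : S ⟶ d.stage x,
    U.ι ≫ g = P.π.app (op x.i) ≫ d.inA x ∧ W.ι ≫ g = chartW x.A ≫ d.inB x := by
  refine ConsPropLib.exists_hom_of_cover U W hcov _ _ ?_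
  let o : ((U ⊓ W : S.Opens) : Scheme.{u}) ⟶ d.OC :=
    IsOpenImmersion.lift (P.π.app d.i₀ ⁻¹ᵁ d.O₀).ι (S.homOfLE inf_le_left) (by
      rw [Scheme.Opens.range_ι]
      rintro _ ⟨z, rfl⟩
      rw [hO]
      show U.ι (S.homOfLE inf_le_left z) ∈ W
      rw [← Scheme.Hom.comp_apply, Scheme.homOfLE_ι]
      exact z.2.2)
  have ho : o ≫ (P.π.app d.i₀ ⁻¹ᵁ d.O₀).ι = S.homOfLE inf_le_left := IsOpenImmersion.lift_fac _ _ _
  have hoW : o ≫ d.b = S.homOfLE inf_le_right := by
    rw [← cancel_mono W.ι, Category.assoc, hb, reassoc_of% ho, Scheme.homOfLE_ι, Scheme.homOfLE_ι]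
  have hsq : d.cs.π.app (d.node x.i x.k) ≫ d.zB x = d.b ≫ chartW x.A :=
    chart_sq (O := d.OC) (d.cs.π.app (d.node x.i x.k)) d.b x.A x.good.le
  have hzA : d.cs.π.app (d.node x.i x.k) ≫ d.zA x = (P.π.app d.i₀ ⁻¹ᵁ d.O₀).ι ≫ P.π.app (op x.i) :=
    Scheme.Hom.resLE_comp_ι _ _
  rw [← ho, ← hoW, Category.assoc, Category.assoc]
  refine congrArg (fun m => o ≫ m) ?_
  refine (Category.assoc _ _ _).symm.trans ((congrArg (· ≫ d.inA x) hzA.symm).trans ?_)
  refine Eq.trans ?_ ((congrArg (· ≫ d.inB x) hsq).trans (Category.assoc _ _ _))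
  exact (Category.assoc _ _ _).trans ((congrArg (fun m => d.cs.π.app (d.node x.i x.k) ≫ m) pushout.condition).trans
    (Category.assoc _ _ _).symm)

/-- The projection of `S` to a stage. -/
def proj (x : d.Idx) : S ⟶ d.stage x := (d.exists_proj hcov hb hO x).choose

theorem ι_proj (x : d.Idx) : U.ι ≫ d.proj hcov hb hO x = P.π.app (op x.i) ≫ d.inA x :=
  (d.exists_proj hcov hb hO x).choose_spec.1

theorem ι_proj' (x : d.Idx) : W.ι ≫ d.proj hcov hb hO x = chartW x.A ≫ d.inB x :=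
  (d.exists_proj hcov hb hO x).choose_spec.2

theorem proj_trS {x y : d.Idx} (h : y ≤ x) : d.proj hcov hb hO x ≫ d.trS h = d.proj hcov hb hO y := by
  refine (cover₂ U.ι W.ι (fun z => (hcov z).imp (fun hz => ⟨⟨z, hz⟩, rfl⟩) fun hz => ⟨⟨z, hz⟩, rfl⟩)).hom_ext
    _ _ fun t => ?_
  cases t
  · show U.ι ≫ _ ≫ _ = U.ι ≫ _
    rw [reassoc_of% (d.ι_proj hcov hb hO x), d.inA_trS, ι_proj, ← Category.assoc]
    exact congrArg (· ≫ d.inA y) ((P.π.naturality (homOfLE h.1).op).symm.trans (Category.id_comp _))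
  · show W.ι ≫ _ ≫ _ = W.ι ≫ _
    rw [reassoc_of% (d.ι_proj' hcov hb hO x), d.inB_trS, ι_proj', ← Category.assoc]
    exact congrArg (· ≫ d.inB y) (d.affsCone.w (homOfLE h).op)

theorem mem_of_proj_inA (x : d.Idx) (z : S) (hz : d.proj hcov hb hO x z ∈ Set.range (d.inA x)) : z ∈ U := by
  rcases hcov z with hU | hW
  · exact hU
  obtain ⟨u, hu⟩ := hz
  let v : (W : Scheme.{u}) := ⟨z, hW⟩
  have h1 : d.inA x u = d.inB x (chartW x.A v) := by
    rw [hu, ← Scheme.Hom.comp_apply, ← ι_proj' d hcov hb hO, Scheme.Hom.comp_apply]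
    rfl
  obtain ⟨t, -, ht⟩ := (d.stage_eq_iff x).1 h1
  obtain ⟨o, ho⟩ : v ∈ Set.range d.b := (d.zB_spec x).2.2.le ⟨t, ht⟩
  have h2 : W.ι (d.b o) = U.ι ((P.π.app d.i₀ ⁻¹ᵁ d.O₀).ι o) := by
    rw [← Scheme.Hom.comp_apply, hb, Scheme.Hom.comp_apply]
    rfl
  rw [ho] at h2
  show W.ι v ∈ U
  rw [h2]
  exact Subtype.prop _

theorem mem_of_proj_inB (x : d.Idx) (z : S) (hz : d.proj hcov hb hO x z ∈ Set.range (d.inB x)) : z ∈ W := by
  rcases hcov z with hU | hW
  swap
  · exact hW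
  obtain ⟨v, hv⟩ := hz
  let u : (U : Scheme.{u}) := ⟨z, hU⟩
  have h1 : d.inA x (P.π.app (op x.i) u) = d.inB x v := by
    rw [hv, ← Scheme.Hom.comp_apply, ← ι_proj d hcov hb hO, Scheme.Hom.comp_apply]
    rfl
  obtain ⟨t, ht, -⟩ := (d.stage_eq_iff x).1 h1
  have h2 : P.π.app (op x.i) u ∈ P.D.map (d.node x.i x.k).hom ⁻¹ᵁ d.O₀ := ht ▸ t.2
  have h3 : u ∈ P.π.app d.i₀ ⁻¹ᵁ d.O₀ := by
    have e : P.π.app (op x.i) ≫ P.D.map (d.node x.i x.k).hom = P.π.app d.i₀ :=
      (P.π.naturality (d.node x.i x.k).hom).symm.trans (Category.id_comp _)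
    rw [← e, Scheme.Hom.comp_preimage]
    exact h2
  rw [hO] at h3
  exact h3

/-- The projections as a cone. -/
def projCone : Cone d.sys where
  pt := S
  π :=
    { app := fun x => d.proj hcov hb hO x.unop
      naturality := fun x y a => (Category.id_comp _).trans (d.proj_trS hcov hb hO (leOfHom a.unop)).symm }

include hcov hb hO in
/-- The extension. -/
theorem nonempty_ext : Nonempty (Ext U.ι P) := by
  let GA : d.Idxᵒᵖ ⥤ Scheme.{u} := d.α.monotone.functor.op ⋙ P.D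
  haveI := d.final_α
  haveI : d.α.monotone.functor.op.Initial := inferInstance
  let cA : Cone GA := (Cone.mk (U : Scheme.{u}) P.π).whisker d.α.monotone.functor.op
  have hcA : IsLimit cA := (Functor.Initial.isLimitWhiskerEquiv _ _).symm P.hc
  obtain ⟨hcB⟩ := d.nonempty_isLimit
  let ιA : GA ⟶ d.sys :=
    { app := fun x => d.inA x.unop
      naturality := fun x y a => (d.inA_trS (leOfHom a.unop)).symm }
  let ιB : d.affs ⟶ d.sys :=
    { app := fun x => d.inB x.unop
      naturality := fun x y a => (d.inB_trS (leOfHom a.unop)).symm }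
  haveI : ∀ x, IsOpenImmersion (ιA.app x) := fun x => inferInstanceAs (IsOpenImmersion (d.inA x.unop))
  haveI : ∀ x, IsOpenImmersion (ιB.app x) := fun x => inferInstanceAs (IsOpenImmersion (d.inB x.unop))
  obtain ⟨hS⟩ := isLimit_of_two (d.projCone hcov hb hO) ιA ιB hcA hcB U.ι W.ι
    (fun x => (d.ι_proj hcov hb hO x.unop).symm) (fun x => (d.ι_proj' hcov hb hO x.unop).symm)
    (fun a z hz => d.trS_inA (leOfHom a.unop) z hz) (fun a z hz => d.trS_inB (leOfHom a.unop) z hz)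
    (fun x z hz => ⟨⟨z, d.mem_of_proj_inA hcov hb hO x.unop z hz⟩, rfl⟩)
    (fun x z hz => ⟨⟨z, d.mem_of_proj_inB hcov hb hO x.unop z hz⟩, rfl⟩)
    (fun x z => d.stage_cov x.unop z)
  exact ⟨{
    Q :=
      { I := d.Idx
        D := d.sys
        π := (d.projCone hcov hb hO).π
        hc := hS
        aff := fun x y a => d.isAffineHom_trS (leOfHom a.unop)
        cpt := fun x => d.compactSpace_stage x.unop
        ft := fun x => d.lft_stage x.unop }
    α := d.α
    ι := fun x => d.inA x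
    isOpen := fun x => inferInstanceAs (IsOpenImmersion (d.inA x))
    sq := fun x y h => d.sqA h
    proj := fun x => IsOpenImmersion.isPullback _ _ _ _ (d.ι_proj hcov hb hO x) (Opens.ext
      (Set.Subset.antisymm (fun z hz => ⟨⟨z, d.mem_of_proj_inA hcov hb hO x z hz⟩, rfl⟩) (by
        rintro _ ⟨v, rfl⟩
        exact ⟨P.π.app (op (d.α x)) v, by
          show d.inA x (P.π.app (op x.i) v) = d.proj hcov hb hO x (U.ι v)
          rw [← Scheme.Hom.comp_apply, ← ι_proj d hcov hb hO, Scheme.Hom.comp_apply]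
          rfl⟩))) }⟩

end Data

/-- An approximation of a compact open extends over an affine open. -/
theorem nonempty_ext_of_cover {S : Scheme.{u}} [QuasiSeparatedSpace S] (U W : S.Opens)
    (hcov : ∀ z : S, z ∈ U ∨ z ∈ W) (hUc : IsCompact (U : Set S)) (hW : IsAffineOpen W)
    (P : Approx (U : Scheme.{u})) : Nonempty (Ext U.ι P) := by
  classical
  haveI : IsAffine (W : Scheme.{u}) := hW
  let cU : Cone P.D := Cone.mk (U : Scheme.{u}) P.π
  haveI : CompactSpace (U : Scheme.{u}) := isCompact_iff_compactSpace.mp hUc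
  haveI : QuasiSeparatedSpace (U : Scheme.{u}) := U.ι.isOpenEmbedding.quasiSeparatedSpace
  have hUW : IsCompact ((U.ι ⁻¹ᵁ W : (U : Scheme.{u}).Opens) : Set (U : Scheme.{u})) := by
    rw [U.ι.isOpenEmbedding.isInducing.isCompact_iff]
    convert QuasiSeparatedSpace.inter_isCompact _ _ U.2 hUc W.2 hW.isCompact using 1
    show U.ι '' (U.ι ⁻¹' (W : Set S)) = _
    rw [Set.image_preimage_eq_inter_range, Scheme.Opens.range_ι, Set.inter_comm]
    rfl
  obtain ⟨i₀, O₀, hO₀c, hO₀⟩ := exists_preimage_eq P.D cU P.hc _ hUW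
  let OC : (U : Scheme.{u}).Opens := P.π.app i₀ ⁻¹ᵁ O₀
  have hOC : OC = U.ι ⁻¹ᵁ W := hO₀
  haveI : CompactSpace (OC : Scheme.{u}) := isCompact_iff_compactSpace.mp (hOC ▸ hUW)
  haveI : QuasiSeparatedSpace (OC : Scheme.{u}) := OC.ι.isOpenEmbedding.quasiSeparatedSpace
  let b : (OC : Scheme.{u}) ⟶ W := IsOpenImmersion.lift W.ι (OC.ι ≫ U.ι) (by
    rw [Scheme.Opens.range_ι]
    rintro _ ⟨z, rfl⟩
    exact hOC.le z.2)
  have hb : b ≫ W.ι = OC.ι ≫ U.ι := IsOpenImmersion.lift_fac _ _ _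
  haveI : IsOpenImmersion b := by
    haveI : IsOpenImmersion (b ≫ W.ι) := by rw [hb]; infer_instance
    exact IsOpenImmersion.of_comp b W.ι
  have hbasic : ∀ x : b.opensRange, ∃ r : Γ((W : Scheme.{u}), ⊤),
      (W : Scheme.{u}).basicOpen r ≤ b.opensRange ∧ x.1 ∈ (W : Scheme.{u}).basicOpen r := fun x =>
    (isAffineOpen_top (W : Scheme.{u})).exists_basicOpen_le x trivial
  choose r hr hxr using hbasic
  obtain ⟨F, hF⟩ := (show IsCompact (b.opensRange : Set (W : Scheme.{u})) from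
      isCompact_range b.continuous).elim_finite_subcover
    (fun x : b.opensRange => (((W : Scheme.{u}).basicOpen (r x)) : Set (W : Scheme.{u})))
    (fun x => ((W : Scheme.{u}).basicOpen (r x)).2) (fun x hx => Set.mem_iUnion.2 ⟨⟨x, hx⟩, hxr ⟨x, hx⟩⟩)
  let g : F → Γ((W : Scheme.{u}), ⊤) := fun s => r s.1
  have hg : ⨆ s, (W : Scheme.{u}).basicOpen (g s) = b.opensRange := le_antisymm (iSup_le fun s => hr s.1)
    fun x hx => by
      obtain ⟨y, hy, hxy⟩ := Set.mem_iUnion₂.1 (hF hx)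
      exact Opens.mem_iSup.2 ⟨⟨y, hy⟩, hxy⟩
  haveI : ∀ n : Over i₀, CompactSpace ((opensDiagram P.D i₀ O₀).obj n) := fun n =>
    isCompact_iff_compactSpace.mp ((P.D.map n.hom).isCompact_preimage hO₀c)
  haveI : ∀ n : Over i₀, QuasiSeparatedSpace ((opensDiagram P.D i₀ O₀).obj n) := fun n =>
    (Scheme.Opens.ι _).isOpenEmbedding.quasiSeparatedSpace
  obtain ⟨j, t, ht, htcov, htaff⟩ := exists_stage_basic (isLimitOpensCone P.D cU P.hc i₀ O₀)
    (fun s => b.appTop (g s)) (by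
      show ⨆ s, (OC : Scheme.{u}).basicOpen (b.appTop (g s)) = ⊤
      simp only [← Scheme.preimage_basicOpen_top, ← Scheme.Hom.preimage_iSup, hg]
      exact Opens.ext (Set.eq_univ_of_forall fun z => ⟨z, rfl⟩)) (fun s => by
      show IsAffineOpen ((OC : Scheme.{u}).basicOpen (b.appTop (g s)))
      rw [← Scheme.preimage_basicOpen_top]
      exact ((isAffineOpen_top _).basicOpen (g s)).preimage_of_isOpenImmersion b (hr s.1))
  let d : Data P (W : Scheme.{u}) :=
    { i₀ := i₀, O₀ := O₀, hO₀ := hO₀c, b := b, isOpen := inferInstance, cptOC := inferInstanceAs (CompactSpace (OC : Scheme.{u})),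
      qsOC := inferInstanceAs (QuasiSeparatedSpace (OC : Scheme.{u})), σ := F, f := g, hf := hg, j := j, t := t,
      ht := ht, htcov := htcov, htaff := htaff }
  exact d.nonempty_ext hcov hb hOC

end Groth.Agent.TTApprox.Rel
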